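import Groth.Agent.Lib.GorFib27.Global
import Groth.Agent.Lib.Dlz27.Deg
import Groth.Agent.Lib.Goren15.FieldExt
import Groth.Agent.Lib.Goren15.LCIFibre
import Groth.Agent.Lib.SmoothReg17.Basic
import Groth.Agent.S0342

/-!
# Applications of flat base change with Gorenstein fibres
-/

set_option autoImplicit false
universe u

open CategoryTheory CategoryTheory.Limits TensorProduct Polynomial

attribute [local instance] HasDerivedCategory.standard

noncomputable section

namespace Groth.Agent.GorFib27

open Dlz27

variable {A B : Type u} [CommRing A] [CommRing B] [Algebra A B] [IsNoetherianRing A] {ω : Dual.D A}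

theorem dim_lt_top_of_finiteType [Algebra.FiniteType A B] (h : ringKrullDim A < ⊤) : ringKrullDim B < ⊤ := by
  obtain ⟨n, f, hf⟩ := Algebra.FiniteType.iff_quotient_mvPolynomial''.1 (inferInstance : Algebra.FiniteType A B)
  refine (ringKrullDim_le_of_surjective f.toRingHom hf).trans_lt ?_
  rw [MvPolynomial.ringKrullDim_of_isNoetherianRing, Nat.card_fin]
  rcases eq_or_ne (ringKrullDim A) ⊥ with hb | hb
  · rw [hb, WithBot.bot_add]; exact bot_lt_iff_ne_bot.2 (by simp)
  · obtain ⟨d, hd⟩ := WithBot.ne_bot_iff_exists.1 hb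
    rw [← hd] at h ⊢
    obtain ⟨e, he⟩ := ENat.ne_top_iff_exists.1 (fun e => (ne_of_lt h) (by rw [e]; rfl) : d ≠ ⊤)
    rw [← he]
    exact WithBot.coe_lt_coe.2 (by exact_mod_cast ENat.natCast_lt_top (e + n))

theorem isGorensteinRing_of_regular (R : Type u) [CommRing R] [IsNoetherianRing R]
    (h : ∀ p : PrimeSpectrum R, IsRegularLocalRing (Localization.AtPrime p.asIdeal)) : LocCoh.IsGorensteinRing R :=
  { isGorensteinLocalRing_localization := fun p _ => @S0342.result (Localization.AtPrime p) _ (h ⟨p, ‹_›⟩) }

theorem gorenstein_of_smooth (k R : Type u) [Field k] [CommRing R] [Algebra k R] [Algebra.Smooth k R] :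
    LocCoh.IsGorensteinRing R := by
  haveI : IsNoetherianRing R := Algebra.FiniteType.isNoetherianRing k R
  exact isGorensteinRing_of_regular R fun p =>
    SmoothReg17.isRegularLocalRing_of_smooth (algebraMap k R) (RingHom.smooth_algebraMap.2 inferInstance) p.asIdeal

theorem isDualizing_LBaseChange_finiteType [Module.Flat A B] [Algebra.FiniteType A B]
    [DRing.HasLBaseChange (algebraMap A B)] (hω : Dual.IsDualizing A ω)
    (hG : ∀ p : PrimeSpectrum A, LocCoh.IsGorensteinRing (p.asIdeal.Fiber B)) :
    Dual.IsDualizing B ((DRing.LBaseChange (algebraMap A B)).obj ω) := by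
  haveI : IsNoetherianRing B := Algebra.FiniteType.isNoetherianRing A B
  exact isDualizing_LBaseChange_of_gorenstein hω (dim_lt_top_of_finiteType (Dlz27.ringKrullDim_lt_top hω (model hω)))
    (gorenstein_fibLocRing_of_fibre hG)

theorem isDualizing_LBaseChange_smooth [Algebra.Smooth A B] [DRing.HasLBaseChange (algebraMap A B)]
    (hω : Dual.IsDualizing A ω) : Dual.IsDualizing B ((DRing.LBaseChange (algebraMap A B)).obj ω) :=
  isDualizing_LBaseChange_finiteType hω fun p => gorenstein_of_smooth p.asIdeal.ResidueField _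

theorem isDualizing_LBaseChange_polynomial [DRing.HasLBaseChange (algebraMap A A[X])]
    (hω : Dual.IsDualizing A ω) : Dual.IsDualizing A[X] ((DRing.LBaseChange (algebraMap A A[X])).obj ω) :=
  haveI : Algebra.Smooth A A[X] := ⟨inferInstance, Algebra.FinitePresentation.polynomial A A⟩
  isDualizing_LBaseChange_smooth hω

theorem gorenstein_fibre_fieldExt (k K : Type u) [Field k] [Field K] [Algebra k K] (R : Type u) [CommRing R]
    [Algebra k R] [Algebra.FiniteType k R] [Algebra R (K ⊗[k] R)]
    (halg : algebraMap R (K ⊗[k] R) = (Algebra.TensorProduct.includeRight : R →ₐ[k] K ⊗[k] R).toRingHom)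
    (p : PrimeSpectrum R) : LocCoh.IsGorensteinRing (p.asIdeal.Fiber (K ⊗[k] R)) := by
  obtain rfl : ‹Algebra R (K ⊗[k] R)› = Algebra.TensorProduct.rightAlgebra := Algebra.algebra_ext _ _ fun r =>
    RingHom.congr_fun halg r
  letI : Algebra R (K ⊗[k] R) := Algebra.TensorProduct.rightAlgebra
  let κ := p.asIdeal.ResidueField
  haveI := Goren15.isGorensteinRing_of_field K
  haveI : Algebra.EssFiniteType k R := inferInstance
  haveI : Algebra.EssFiniteType k κ := Algebra.EssFiniteType.comp k R κ
  haveI h : LocCoh.IsGorensteinRing (K ⊗[k] κ) :=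
    Goren15.isGorensteinRing_tensor_fieldExt k κ K ((IntermediateField.fg_top k κ)) 
  exact Goren15.isGorensteinRing_of_ringEquiv (((Algebra.TensorProduct.comm k K κ).toRingEquiv.trans
    (Algebra.TensorProduct.cancelBaseChange k R κ κ K).symm.toRingEquiv).trans
    (Algebra.TensorProduct.congr (AlgEquiv.refl (R := κ) (A₁ := κ)) (Algebra.TensorProduct.commRight k R K)).toRingEquiv)

end Groth.Agent.GorFib27
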