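import Groth.Agent.Lib.GorFib27.Global
import Groth.Agent.Lib.Dlz27.DepthAt
import Groth.Agent.Lib.Dlz27.DegApps
import Groth.Agent.Lib.Dlz27.Glue
import Groth.Agent.Lib.Dlz27.Shift
import Groth.Agent.Lib.FibDepth5.Sk
import Groth.Agent.Lib.Depth.CM

/-!
# Degrees of primes under flat base change
-/

set_option autoImplicit false
universe u

open CategoryTheory CategoryTheory.Limits

attribute [local instance] HasDerivedCategory.standard

noncomputable section

namespace Groth.Agent.GorFib27

open Dlz27

variable {A B : Type u} [CommRing A] [CommRing B] [Algebra A B] [IsNoetherianRing A] [IsNoetherianRing B]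
  {ω : Dual.D A}

/-- Off the degree of a prime there are no morphisms from the residue field. -/
theorem subsingleton_hom_residue (hω : Dual.IsDualizing A ω) (M : Model ω) (q : PrimeSpectrum A) (i : ℤ)
    (hi : i ≠ deg hω M q) :
    Subsingleton (Dual.inD (Localization q.asIdeal.primeCompl)
      (Localization q.asIdeal.primeCompl ⧸ IsLocalRing.maximalIdeal (Localization q.asIdeal.primeCompl)) ⟶
      (omegaAt M q)⟦i⟧) := by
  let S := q.asIdeal.primeCompl
  haveI : (locCx S M.W).IsKInjective := (locModel M S).kinj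
  have hv : Van (locCx S M.W) (Localization S ⧸ IsLocalRing.maximalIdeal (Localization S)) i :=
    (van_residue_iff _).2 ((vanS_iff_classes q.asIdeal _).1 ((vanS_iff_ne_deg hω M q _).2 hi))
  exact (subsingleton_hom_iff_van (locModel M S).e _ _).2 hv

/-- The module `B ⧸ p B` of the fibre over the prime below `q`. -/
abbrev fibQuot (q : PrimeSpectrum B) : Type u :=
  B ⧸ (((q.asIdeal.comap (algebraMap A B)).map (algebraMap A B) • ⊤ : Submodule B B))

theorem exists_depth_fibQuot (q : PrimeSpectrum B) : ∃ δ : ℕ,
    LocCoh.depth (Localization.AtPrime q.asIdeal) (LocalizedModule q.asIdeal.primeCompl (fibQuot (A := A) q)) = δ := by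
  haveI : Nontrivial (LocalizedModule q.asIdeal.primeCompl (fibQuot (A := A) q)) := by
    refine Module.mem_support_iff.1 ?_
    rw [Module.support_eq_zeroLocus, PrimeSpectrum.mem_zeroLocus]
    rw [show Module.annihilator B (fibQuot (A := A) q) = _ from Ideal.annihilator_quotient]
    intro x hx
    exact Ideal.map_comap_le ((Ideal.mul_top _).le hx)
  exact DepthLib.exists_depth_eq_natCast

/-- The degree goes up by the depth of the fibre. -/
theorem deg_eq_deg_add [Module.Flat A B] (hω : Dual.IsDualizing A ω) (M : Model ω)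
    (hB : Dual.IsDualizing B (DerivedCategory.Q.obj (eC (algebraMap A B) M.W)))
    (MB : Model (DerivedCategory.Q.obj (eC (algebraMap A B) M.W))) (q : PrimeSpectrum B) (δ : ℕ)
    (hδ : LocCoh.depth (Localization.AtPrime q.asIdeal)
      (LocalizedModule q.asIdeal.primeCompl (fibQuot (A := A) q)) = δ) :
    deg hB MB q = deg hω M (PrimeSpectrum.comap (algebraMap A B) q) + δ := by
  let φ := algebraMap A B
  let p : PrimeSpectrum A := PrimeSpectrum.comap φ q
  let S := p.asIdeal.primeCompl
  let T := q.asIdeal.primeCompl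
  let A' := Localization.AtPrime p.asIdeal
  let B' := Localization.AtPrime q.asIdeal
  haveI : IsNoetherianRing A' := IsLocalization.isNoetherianRing S _ inferInstance
  haveI : IsNoetherianRing B' := IsLocalization.isNoetherianRing T _ inferInstance
  let ψ : A' →+* B' := Localization.localRingHom p.asIdeal q.asIdeal φ rfl
  have hcomp : ψ.comp (algebraMap A A') = (algebraMap B B').comp φ :=
    RingHom.ext fun a => Localization.localRingHom_to_map p.asIdeal q.asIdeal φ rfl a
  have hψ : ψ.Flat := RingHom.Flat.localRingHom (RingHom.flat_algebraMap_iff.2 ‹_›) _ _ _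
  let M' : Model (omegaAt M p) := locModel M S
  have hω' : Dual.IsDualizing A' (omegaAt M p) := isDualizing_omegaAt hω M p
  obtain ⟨d, hvan, ⟨el⟩⟩ := ext_residue hω' (IsLocalRing.maximalIdeal A')
  have hd : d = deg hω M p := by
    by_contra hne
    haveI := subsingleton_hom_residue hω M p d hne
    haveI : Subsingleton (A' ⧸ IsLocalRing.maximalIdeal A') := el.symm.toEquiv.subsingleton
    exact (IsLocalRing.maximalIdeal.isMaximal A').ne_top (Ideal.Quotient.subsingleton_iff.1 inferInstance)
  obtain ⟨hvanB, -⟩ := fibre_hom ψ M' hψ (IsLocalRing.maximalIdeal A') d hvan el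
  have eR : DerivedCategory.Q.obj (eC ψ (locCx S M.W)) ≅
      DerivedCategory.Q.obj (locCx T (eC φ M.W)) :=
    DerivedCategory.Q.mapIso (
      ((ModuleCat.extendScalars.{u, u, u} ψ).mapHomologicalComplex (ComplexShape.up ℤ)).mapIso
        ((NatIso.mapHomologicalComplex (extLocIso S) (ComplexShape.up ℤ)).app M.W).symm ≪≫
        ((NatIso.mapHomologicalComplex (ModuleCat.extendScalarsComp.{u} (algebraMap A A') ψ) (ComplexShape.up ℤ)).app M.W).symm ≪≫
        eqToIso (congrArg (fun f => eC f M.W) hcomp) ≪≫
        (NatIso.mapHomologicalComplex (ModuleCat.extendScalarsComp.{u} φ (algebraMap B B')) (ComplexShape.up ℤ)).app M.W ≪≫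
        (NatIso.mapHomologicalComplex (extLocIso T) (ComplexShape.up ℤ)).app (eC φ M.W))
  obtain ⟨eB⟩ := exists_locCx_congr T MB.e.symm
  let N := fibQuot (A := A) q
  let J : Ideal B' := (IsLocalRing.maximalIdeal A').map ψ
  have hJ : J = (q.asIdeal.comap φ).map ((algebraMap B B').comp φ) := by
    show (IsLocalRing.maximalIdeal A').map ψ = _
    rw [← Localization.AtPrime.map_eq_maximalIdeal, Ideal.map_map, hcomp]
    rfl
  obtain ⟨eF⟩ := FibDepth5.nonempty_fibLocMod_equiv (A := A) (M := B) q.asIdeal (p := q.asIdeal.comap φ) rfl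
  let eBB : LocalizedModule T B ≃ₗ[B'] B' :=
    (IsLocalizedModule.iso T (Algebra.linearMap B B')).extendScalarsOfIsLocalization T B'
  let Jt : Submodule B' (LocalizedModule T B) := (q.asIdeal.comap φ).map (algebraMap A B') • ⊤
  have hmap : Submodule.map eBB.toLinearMap Jt = J := by
    rw [Submodule.map_smul'', Submodule.map_top, LinearEquiv.range]
    rw [hJ, IsScalarTower.algebraMap_eq A B B']
    exact Ideal.mul_top _
  let eN : NAt T N ≃ₗ[B'] B' ⧸ J :=
    (Shrink.linearEquiv B' (LocalizedModule T N)).trans (eF.symm.trans (Submodule.Quotient.equiv Jt J eBB hmap))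
  have hvS : ∀ i, i ≠ d → VanS MB.W T N i := fun i hi => by
    haveI : (locCx T MB.W).IsKInjective := (locModel MB T).kinj
    refine vanS_of_van_loc T MB.W N i ((subsingleton_hom_iff_van (locModel MB T).e _ _).1 ?_)
    exact @Equiv.subsingleton _ _ (Iso.homCongr ((DerivedCategory.singleFunctor (ModuleCat.{u} B') 0).mapIso eN.toModuleIso)
      ((shiftFunctor (Dual.D B') i).mapIso (eR ≪≫ eB).symm)) (hvanB i hi)
  obtain ⟨-, hnv⟩ := vanS_of_depth hB MB q δ N hδ
  have h1 : deg hB MB q - δ = d := by_contra fun hne => hnv (hvS _ hne)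
  show deg hB MB q = deg hω M p + δ
  omega

end Groth.Agent.GorFib27
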