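import Groth.Agent.Lib.Dlz27.Point
import Groth.Agent.Lib.Dlz27.Converse2

/-!
# Element-level residual data of a K-injective complex
-/

set_option autoImplicit false
universe u

open CategoryTheory CategoryTheory.Limits

attribute [local instance] HasDerivedCategory.standard

noncomputable section

namespace Groth.Agent.GorFib27

open RGamma27 Dlz27

variable {A : Type u} [CommRing A] (W : DRing.Cx A) (J : Ideal A)

/-- The complex `Hom(A ⧸ J, W)` has cohomology `A ⧸ J` in degree `d` only. -/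
def Res (d : ℤ) : Prop :=
  (∀ i, i ≠ d → ∀ x, XCy W J i x → XBd W J i x) ∧
    ∃ x, XCy W J d x ∧ (∀ a : A, XBd W J d (a • x) → a ∈ J) ∧ ∀ y, XCy W J d y → ∃ a : A, XBd W J d (y - a • x)

variable {W J} {i : ℤ}

theorem xcy_smul (a : A) {x : W.X i} (hx : XCy W J i x) : XCy W J i (a • x) :=
  ⟨(Xk W J i).smul_mem a hx.1, by rw [map_smul, hx.2, smul_zero]⟩

theorem xcy_sub {x y : W.X i} (hx : XCy W J i x) (hy : XCy W J i y) : XCy W J i (x - y) :=
  ⟨(Xk W J i).sub_mem hx.1 hy.1, by rw [map_sub, hx.2, hy.2, sub_zero]⟩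

/-- The morphism of a killed cocycle. -/
abbrev src (J : Ideal A) : DerivedCategory (ModuleCat.{u} A) :=
  DerivedCategory.Q.obj ((CochainComplex.singleFunctor (ModuleCat.{u} A) 0).obj (ModuleCat.of A (A ⧸ J)))

/-- The morphism of a killed cocycle. -/
def cls {x : W.X i} (hx : XCy W J i x) : src J ⟶ (DerivedCategory.Q.obj W)⟦i⟧ :=
  el (ModuleCat.ofHom (ofKilled x hx.1)) (ModuleCat.hom_ext (linearMap_ext_one (by
    show W.d i (i + 1) (ofKilled x hx.1 1) = 0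
    rw [ofKilled_one, hx.2])))

theorem cls_smul (a : A) {x : W.X i} (hx : XCy W J i x) : cls (xcy_smul a hx) = a • cls hx := by
  unfold cls
  rw [← el_smul]
  exact el_congr (ModuleCat.hom_ext (linearMap_ext_one (by
    show ofKilled (a • x) (xcy_smul a hx).1 1 = a • ofKilled x hx.1 1
    rw [ofKilled_one, ofKilled_one]))) _

variable [W.IsKInjective]

theorem cls_eq_zero_iff {x : W.X i} (hx : XCy W J i x) : cls hx = 0 ↔ XBd W J i x := by
  rw [cls, el_eq_zero_iff]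
  constructor
  · rintro ⟨g, hg⟩
    exact ⟨g 1, killed_one g.hom, (congrArg (fun f => f.hom (1 : A ⧸ J)) hg).trans (ofKilled_one x hx.1)⟩
  · rintro ⟨y, hy, hd⟩
    exact ⟨ModuleCat.ofHom (ofKilled y hy), ModuleCat.hom_ext (linearMap_ext_one (by
      show W.d (i - 1) i (ofKilled y hy 1) = ofKilled x hx.1 1
      rw [ofKilled_one, ofKilled_one, hd]))⟩

theorem cls_surjective (φ : src J ⟶ (DerivedCategory.Q.obj W)⟦i⟧) :
    ∃ (x : W.X i) (hx : XCy W J i x), cls hx = φ := by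
  obtain ⟨f, hf, rfl⟩ := el_surjective φ
  refine ⟨f (1 : A ⧸ J), ⟨killed_one f.hom, congrArg (fun g => g.hom (1 : A ⧸ J)) hf⟩, ?_⟩
  exact el_congr (ModuleCat.hom_ext (linearMap_ext_one (f := ofKilled (f.hom (1 : A ⧸ J)) (killed_one f.hom))
    (g := f.hom) (ofKilled_one _ _))) _

theorem cls_eq_iff {x y : W.X i} (hx : XCy W J i x) (hy : XCy W J i y) :
    cls hx = cls hy ↔ XBd W J i (x - y) := by
  rw [← cls_eq_zero_iff (xcy_sub hx hy), ← sub_eq_zero]
  have h : cls (xcy_sub hx hy) + cls hy = cls hx := by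
    unfold cls
    rw [← el_add]
    exact el_congr (ModuleCat.hom_ext (linearMap_ext_one (by
      show ofKilled (x - y) (xcy_sub hx hy).1 1 + ofKilled y hy.1 1 = ofKilled x hx.1 1
      rw [ofKilled_one, ofKilled_one, ofKilled_one, sub_add_cancel]))) _
  rw [← h, add_sub_cancel_right]

theorem res_of_hom {d : ℤ}
    (hvan : ∀ j : ℤ, j ≠ d → Subsingleton (Dual.inD A (A ⧸ J) ⟶ (DerivedCategory.Q.obj W)⟦j⟧))
    (e : (Dual.inD A (A ⧸ J) ⟶ (DerivedCategory.Q.obj W)⟦d⟧) ≃ₗ[A] A ⧸ J) : Res W J d := by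
  change ∀ j : ℤ, j ≠ d → Subsingleton (src J ⟶ (DerivedCategory.Q.obj W)⟦j⟧) at hvan
  replace e : (src J ⟶ (DerivedCategory.Q.obj W)⟦d⟧) ≃ₗ[A] A ⧸ J := e
  refine ⟨fun j hj x hx => (cls_eq_zero_iff hx).1 ((hvan j hj).elim _ _), ?_⟩
  obtain ⟨x, hx, hex⟩ := cls_surjective (e.symm 1)
  have hone : ∀ a : A, a • (1 : A ⧸ J) = Ideal.Quotient.mk J a := fun a => by
    rw [Algebra.smul_def, mul_one]; rfl
  refine ⟨x, hx, fun a ha => ?_, fun y hy => ?_⟩
  · have h0 : a • cls hx = 0 := by rw [← cls_smul, cls_eq_zero_iff]; exact ha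
    rw [hex, ← map_smul, LinearEquiv.map_eq_zero_iff, hone] at h0
    exact Ideal.Quotient.eq_zero_iff_mem.1 h0
  · obtain ⟨a, ha⟩ := Ideal.Quotient.mk_surjective (e (cls hy))
    refine ⟨a, (cls_eq_iff hy (xcy_smul a hx)).1 (e.injective ?_)⟩
    rw [cls_smul a hx, hex, map_smul, LinearEquiv.apply_symm_apply, hone, ha]

theorem hom_of_res {d : ℤ} (h : Res W J d) :
    (∀ j : ℤ, j ≠ d → Subsingleton (Dual.inD A (A ⧸ J) ⟶ (DerivedCategory.Q.obj W)⟦j⟧)) ∧
      Nonempty ((Dual.inD A (A ⧸ J) ⟶ (DerivedCategory.Q.obj W)⟦d⟧) ≃ₗ[A] A ⧸ J) := by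
  obtain ⟨h0, x, hx, hann, hgen⟩ := h
  show (∀ j : ℤ, j ≠ d → Subsingleton (src J ⟶ (DerivedCategory.Q.obj W)⟦j⟧)) ∧
    Nonempty ((src J ⟶ (DerivedCategory.Q.obj W)⟦d⟧) ≃ₗ[A] A ⧸ J)
  refine ⟨fun j hj => subsingleton_of_forall_eq 0 fun φ => ?_, ?_⟩
  · obtain ⟨y, hy, rfl⟩ := cls_surjective φ
    exact (cls_eq_zero_iff hy).2 (h0 j hj y hy)
  let L : A →ₗ[A] (src J ⟶ (DerivedCategory.Q.obj W)⟦d⟧) := LinearMap.toSpanSingleton A _ (cls hx)
  have hL : Function.Surjective L := fun φ => by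
    obtain ⟨y, hy, rfl⟩ := cls_surjective φ
    obtain ⟨a, ha⟩ := hgen y hy
    refine ⟨a, ?_⟩
    show a • cls hx = _
    rw [← cls_smul, eq_comm, cls_eq_iff]
    exact ha
  have hker : LinearMap.ker L = J := by
    ext a
    rw [LinearMap.mem_ker, LinearMap.toSpanSingleton_apply, ← cls_smul, cls_eq_zero_iff]
    refine ⟨hann a, fun ha => ⟨0, zero_mem _, ?_⟩⟩
    rw [map_zero, (mem_Xk W J).1 hx.1 a ha]
  exact ⟨(L.quotKerEquivOfSurjective hL).symm.trans (Submodule.quotEquivOfEq _ _ hker)⟩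

end Groth.Agent.GorFib27
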