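import Groth.Agent.Lib.GorFib27.Descent
import Groth.Agent.Lib.GorFib27.Apps
import Groth.Agent.Lib.FlatDepth.CM

/-!
# Descent of dualizing complexes along faithfully flat maps
-/

set_option autoImplicit false
universe u

open CategoryTheory CategoryTheory.Limits

attribute [local instance] HasDerivedCategory.standard

noncomputable section

namespace Groth.Agent.GorFib27

open Dlz27

variable {A B : Type u} [CommRing A] [CommRing B] [Algebra A B] [IsNoetherianRing A] [IsNoetherianRing B]
  [Module.FaithfullyFlat A B]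

omit [Algebra A B] [IsNoetherianRing A] [IsNoetherianRing B] [Module.FaithfullyFlat A B] in
theorem descend_ext {M : ModuleCat.{u} A} (φ : A →+* B) (hφ : φ.FaithfullyFlat) :
    (Module.Finite B ((eF φ).obj M) → Module.Finite A M) ∧ (Subsingleton ((eF φ).obj M) → Subsingleton M) := by
  letI := φ.toAlgebra
  haveI : Module.FaithfullyFlat A B := hφ
  refine ⟨fun h => ?_, fun h => ?_⟩
  · haveI : Module.Finite B (TensorProduct A B M) := h
    exact Module.Finite.of_finite_tensorProduct_of_faithfullyFlat B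
  · exact (Module.FaithfullyFlat.subsingleton_tensorProduct_iff_right A B).1 h

omit [IsNoetherianRing A] [IsNoetherianRing B] in
theorem dim_le_of_faithfullyFlat : ringKrullDim A ≤ ringKrullDim B := by
  haveI : Algebra.HasGoingDown A B := Algebra.HasGoingDown.of_flat
  refine iSup_le fun l => ?_
  obtain ⟨P, hP⟩ := PrimeSpectrum.comap_surjective_of_faithfullyFlat (A := A) (B := B) l.last
  haveI : P.asIdeal.LiesOver l.last.asIdeal := ⟨by rw [← hP]; rfl⟩
  obtain ⟨L, hL, -, -⟩ := Ideal.exists_ltSeries_of_hasGoingDown l P.asIdeal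
  rw [← hL]
  exact le_iSup_of_le L le_rfl

theorem isArtinianRing_fibLocRing (p : PrimeSpectrum A) :
    ∃ q : PrimeSpectrum B, q.asIdeal.comap (algebraMap A B) = p.asIdeal ∧
      IsArtinianRing (EGA4.FibLocRing A B q.asIdeal) := by
  haveI := FlatDepth.isNoetherianRing_fiber (B := B) p.asIdeal
  obtain ⟨q₀, hq₀⟩ := PrimeSpectrum.comap_surjective_of_faithfullyFlat (A := A) (B := B) p
  let P₀ := PrimeSpectrum.preimageEquivFiber A B p ⟨q₀, hq₀⟩
  obtain ⟨P, hP, -⟩ := Ideal.exists_minimalPrimes_le (I := (⊥ : Ideal (p.asIdeal.Fiber B))) (J := P₀.asIdeal) bot_le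
  haveI : P.IsPrime := hP.1.1
  let r : PrimeSpectrum B := ⟨P.comap (Algebra.TensorProduct.includeRight : B →ₐ[A] p.asIdeal.Fiber B), inferInstance⟩
  have hr : r.asIdeal.comap (algebraMap A B) = p.asIdeal := by
    rw [Ideal.LiesOver.over (P := P) (p := p.asIdeal), Ideal.under_def]
    ext a
    simp [r]
  let e : Localization.AtPrime P ≃+* EGA4.FibLocRing A B r.asIdeal :=
    (Ideal.Fiber.algEquivAux₂ p.asIdeal P).toRingEquiv.trans (Ideal.quotEquivOfEq (by
      rw [Ideal.map_map, ← IsScalarTower.algebraMap_eq]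
      exact congrArg (Ideal.map _) hr.symm))
  haveI : IsNoetherianRing (Localization.AtPrime P) := IsLocalization.isNoetherianRing P.primeCompl _ inferInstance
  haveI : Ring.KrullDimLE 0 (Localization.AtPrime P) := by
    rw [Ring.krullDimLE_iff, IsLocalization.AtPrime.ringKrullDim_eq_height P (Localization.AtPrime P),
      Ideal.height_eq_zero_iff.2 hP]
    exact le_rfl
  haveI : IsArtinianRing (Localization.AtPrime P) :=
    (@isArtinianRing_iff_krullDimLE_zero (Localization.AtPrime P) _ _).2 inferInstance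
  exact ⟨r, hr, e.surjective.isArtinianRing (f := e.toRingHom)⟩

theorem isDualizing_descend (W : DRing.Cx A) (lo hi : ℤ) [W.IsStrictlyGE lo] [W.IsStrictlyLE hi]
    (hfin : ∀ i, Module.Finite A (W.homology i))
    (hB : Dual.IsDualizing B (DerivedCategory.Q.obj (eC (algebraMap A B) W))) :
    Dual.IsDualizing A (DerivedCategory.Q.obj W) := by
  let R := DerivedCategory.Q.obj W
  obtain ⟨W₀, hW₀, hW₀i, hW₀K, ⟨e₀⟩⟩ := HTFin27.exists_res_bounded R lo fun i hi => ModuleCat.subsingleton_of_isZero
    (DerivedCategory.isZero_of_isGE _ lo i hi)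
  haveI := hW₀
  have hfin' : ∀ i, Module.Finite A (Dual.HD A R i) := fun i => by
    haveI h1 : Module.Finite A ((HomologicalComplex.homologyFunctor (ModuleCat.{u} A) (ComplexShape.up ℤ) i).obj W) := hfin i
    exact Module.Finite.equiv ((DerivedCategory.homologyFunctorFactors (ModuleCat.{u} A) i).app W).toLinearEquiv.symm
  let MB := model hB
  refine isDualizing_of_primes R ((dim_le_of_faithfullyFlat (B := B)).trans_lt (Dlz27.ringKrullDim_lt_top hB MB))
    hfin' lo W₀ hW₀i e₀ fun p => ?_
  obtain ⟨e⟩ := exists_locCx_congr p.asIdeal.primeCompl e₀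
  refine isDualizing_of_iso e.symm ?_
  obtain ⟨q, hq, hart⟩ := isArtinianRing_fibLocRing (B := B) p
  let φ := algebraMap A B
  let S := p.asIdeal.primeCompl
  let A' := Localization.AtPrime p.asIdeal
  let B' := Localization.AtPrime q.asIdeal
  haveI : IsNoetherianRing A' := IsLocalization.isNoetherianRing S _ inferInstance
  haveI : IsNoetherianRing B' := IsLocalization.isNoetherianRing q.asIdeal.primeCompl _ inferInstance
  let ψ : A' →+* B' := Localization.localRingHom p.asIdeal q.asIdeal φ hq.symm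
  have hcomp : ψ.comp (algebraMap A A') = (algebraMap B B').comp φ :=
    RingHom.ext fun a => Localization.localRingHom_to_map p.asIdeal q.asIdeal φ hq.symm a
  have hψ : ψ.Flat := RingHom.Flat.localRingHom (RingHom.flat_algebraMap_iff.2 inferInstance) _ _ _
  have hmap : (IsLocalRing.maximalIdeal A').map ψ = (q.asIdeal.comap φ).map ((algebraMap B B').comp φ) := by
    rw [← Localization.AtPrime.map_eq_maximalIdeal, Ideal.map_map, hcomp]
    exact congrArg (Ideal.map _) hq.symm
  have hm : (IsLocalRing.maximalIdeal A').map ψ ≤ IsLocalRing.maximalIdeal B' := by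
    rw [hmap, ← Ideal.map_map, ← Localization.AtPrime.map_eq_maximalIdeal]
    exact Ideal.map_mono Ideal.map_comap_le
  haveI : Nontrivial (B' ⧸ (IsLocalRing.maximalIdeal A').map ψ) :=
    Ideal.Quotient.nontrivial_iff.2 fun h =>
      (IsLocalRing.maximalIdeal.isMaximal B').ne_top (top_le_iff.1 (h ▸ hm))
  haveI : IsLocalRing (B' ⧸ (IsLocalRing.maximalIdeal A').map ψ) :=
    IsLocalRing.of_surjective' _ Ideal.Quotient.mk_surjective
  let eQ : (B' ⧸ (IsLocalRing.maximalIdeal A').map ψ) ≃+* EGA4.FibLocRing A B q.asIdeal :=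
    Ideal.quotEquivOfEq (by rw [hmap, ← IsScalarTower.algebraMap_eq])
  haveI : IsArtinianRing (B' ⧸ (IsLocalRing.maximalIdeal A').map ψ) :=
    haveI := hart
    eQ.symm.surjective.isArtinianRing (f := eQ.symm.toRingHom)
  let eR : DerivedCategory.Q.obj (eC ψ (locCx S W)) ≅
      DerivedCategory.Q.obj (locCx q.asIdeal.primeCompl (eC φ W)) :=
    DerivedCategory.Q.mapIso (
      ((ModuleCat.extendScalars.{u, u, u} ψ).mapHomologicalComplex (ComplexShape.up ℤ)).mapIso
        ((NatIso.mapHomologicalComplex (extLocIso S) (ComplexShape.up ℤ)).app W).symm ≪≫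
        ((NatIso.mapHomologicalComplex (ModuleCat.extendScalarsComp.{u} (algebraMap A A') ψ) (ComplexShape.up ℤ)).app W).symm ≪≫
        eqToIso (congrArg (fun f => eC f W) hcomp) ≪≫
        (NatIso.mapHomologicalComplex (ModuleCat.extendScalarsComp.{u} φ (algebraMap B B')) (ComplexShape.up ℤ)).app W ≪≫
        (NatIso.mapHomologicalComplex (extLocIso q.asIdeal.primeCompl) (ComplexShape.up ℤ)).app (eC φ W))
  obtain ⟨eM⟩ := exists_locCx_congr q.asIdeal.primeCompl MB.e
  refine isDualizing_descend_local ψ hψ (locCx S W) lo hi (fun i => finite_homology_locCx S W i (hfin i)) hm ?_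
  exact isDualizing_of_iso (eM ≪≫ eR.symm) (isDualizing_omegaAt hB MB q)

theorem isDualizing_of_LBaseChange [DRing.HasLBaseChange (algebraMap A B)] (K : Dual.D A)
    (hK : Dual.IsDualizing B ((DRing.LBaseChange (algebraMap A B)).obj K)) : Dual.IsDualizing A K := by
  let W := DerivedCategory.Q.objPreimage K
  let eK : DerivedCategory.Q.obj W ≅ K := DerivedCategory.Q.objObjPreimageIso K
  let φ := algebraMap A B
  have hφ : φ.Flat := RingHom.flat_algebraMap_iff.2 inferInstance
  have hWiso : ∀ V : DRing.Cx A, (DerivedCategory.Q.obj V ≅ K) →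
      Dual.IsDualizing B (DerivedCategory.Q.obj (eC φ V)) := fun V eV => by
    haveI := RGamma27.isIso_valueMap_of_flat φ hφ V
    exact isDualizing_of_iso (((DRing.LBaseChange φ).mapIso eV.symm) ≪≫ asIso ((DBaseChange.valueMap φ).app V)) hK
  have hdual := hWiso W eK
  let MB := model hdual
  have key : ∀ i, Module.Finite A (W.homology i) ∧ ((i < MB.lo ∨ MB.hi < i) → Subsingleton (W.homology i)) := fun i => by
    have hff : φ.FaithfullyFlat := RingHom.faithfullyFlat_algebraMap_iff.2 inferInstance
    let eH : Dual.HD B (DerivedCategory.Q.obj (eC φ W)) i ≃ₗ[B] (eF φ).obj (W.homology i) :=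
      ((DerivedCategory.homologyFunctorFactors (ModuleCat.{u} B) i).app (eC φ W) ≪≫
        DBaseChange.homologyExtIso φ hφ W i).toLinearEquiv
    refine ⟨?_, fun hi => ?_⟩
    · haveI := hdual.finite_cohomology i
      exact (descend_ext φ hff).1 (Module.Finite.equiv eH)
    · haveI : Subsingleton (Dual.HD B (DerivedCategory.Q.obj (eC φ W)) i) := by
        have hz : IsZero (MB.W.homology i) := by
          have hX : IsZero (MB.W.X i) := hi.elim (fun h => MB.W.isZero_of_isStrictlyGE MB.lo i h)
            (fun h => MB.W.isZero_of_isStrictlyLE MB.hi i h)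
          exact (MB.W.sc i).exact_iff_isZero_homology.1 ((MB.W.sc i).exact_of_isZero_X₂ hX)
        exact ModuleCat.subsingleton_of_isZero (IsZero.of_iso hz
          ((DerivedCategory.homologyFunctor (ModuleCat.{u} B) i).mapIso MB.e.symm ≪≫
            (DerivedCategory.homologyFunctorFactors (ModuleCat.{u} B) i).app MB.W))
      exact (descend_ext φ hff).2 eH.symm.toEquiv.subsingleton
  have hHD : ∀ i, (i < MB.lo ∨ MB.hi < i) → Subsingleton (Dual.HD A K i) := fun i hi =>
    haveI : Subsingleton ((HomologicalComplex.homologyFunctor (ModuleCat.{u} A) (ComplexShape.up ℤ) i).obj W) := (key i).2 hi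
    ((DerivedCategory.homologyFunctor (ModuleCat.{u} A) i).mapIso eK.symm ≪≫
      (DerivedCategory.homologyFunctorFactors (ModuleCat.{u} A) i).app W).toLinearEquiv.toEquiv.subsingleton
  obtain ⟨V₀, hV₀, -, -, ⟨e'⟩⟩ := HTFin27.exists_res_bounded K MB.lo fun i hi => hHD i (Or.inl hi)
  haveI : (DRing.toD V₀).IsLE MB.hi := (DMod.isLE_iff _ MB.hi).2 fun i hi => by
    haveI := hHD i (Or.inr hi)
    exact ((DerivedCategory.homologyFunctor (ModuleCat.{u} A) i).mapIso e').toLinearEquiv.toEquiv.subsingleton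
  obtain ⟨e''⟩ := DMod.exists_truncTo_iso V₀ MB.hi
  haveI := hV₀
  obtain ⟨h1, h2⟩ := (DMod.vanishesOutside_iff (DMod.truncTo V₀ MB.hi) MB.lo MB.hi).1
    (DMod.vanishesOutside_truncTo V₀ MB.hi MB.lo)
  let eV : DerivedCategory.Q.obj (DMod.truncTo V₀ MB.hi) ≅ K := e'' ≪≫ e'
  refine isDualizing_of_iso eV (isDualizing_descend (DMod.truncTo V₀ MB.hi) MB.lo MB.hi (fun i => ?_) (hWiso _ eV))
  haveI : Module.Finite A ((HomologicalComplex.homologyFunctor (ModuleCat.{u} A) (ComplexShape.up ℤ) i).obj W) := (key i).1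
  exact Module.Finite.equiv (((DerivedCategory.homologyFunctorFactors (ModuleCat.{u} A) i).app W).symm ≪≫
    (DerivedCategory.homologyFunctor (ModuleCat.{u} A) i).mapIso (eK ≪≫ eV.symm) ≪≫
    (DerivedCategory.homologyFunctorFactors (ModuleCat.{u} A) i).app (DMod.truncTo V₀ MB.hi)).toLinearEquiv

end Groth.Agent.GorFib27
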