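import Groth.Agent.Lib.GorFib27.GorQuot
import Groth.Agent.Lib.Dlz27.LocalDual

/-!
# The killed subcomplex of a dualizing complex for an Artinian quotient
-/

set_option autoImplicit false
universe u

open CategoryTheory CategoryTheory.Limits

attribute [local instance] HasDerivedCategory.standard

noncomputable section

namespace Groth.Agent.GorFib27

open RGamma27 Dlz27

variable {B : Type u} [CommRing B] {W : DRing.Cx B} {J : Ideal B}

theorem xcy_add {i : ℤ} {x y : W.X i} (hx : XCy W J i x) (hy : XCy W J i y) : XCy W J i (x + y) :=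
  ⟨(Xk W J i).add_mem hx.1 hy.1, by rw [map_add, hx.2, hy.2, add_zero]⟩

theorem cls_add {i : ℤ} {x y : W.X i} (hx : XCy W J i x) (hy : XCy W J i y) :
    cls (xcy_add hx hy) = cls hx + cls hy := by
  unfold cls
  rw [← el_add]
  exact el_congr (ModuleCat.hom_ext (linearMap_ext_one (by
    show ofKilled (x + y) (xcy_add hx hy).1 1 = ofKilled x hx.1 1 + ofKilled y hy.1 1
    rw [ofKilled_one, ofKilled_one, ofKilled_one]))) _

variable (W J) in
/-- Cohomology of the killed subcomplex. -/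
abbrev KH (i : ℤ) : ModuleCat.{u} (B ⧸ J) :=
  ((killed W J).sc' (i - 1) i (i + 1)).moduleCatLeftHomologyData.H

/-- The class of a killed cocycle. -/
def kc {i : ℤ} (x : W.X i) (hx : XCy W J i x) : KH W J i :=
  (LinearMap.range ((killed W J).sc' (i - 1) i (i + 1)).moduleCatToCycles).mkQ
    ⟨(show (killed W J).X i from (show Xk W J i from ⟨x, hx.1⟩)),
      LinearMap.mem_ker.2 (show killedD W J i (i + 1) ⟨x, hx.1⟩ = 0 from Subtype.ext hx.2)⟩

theorem kc_eq_zero_iff {i : ℤ} (x : W.X i) (hx : XCy W J i x) : kc x hx = 0 ↔ XBd W J i x := by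
  constructor
  · intro h
    obtain ⟨y, hy⟩ := (Submodule.Quotient.mk_eq_zero _).1 h
    exact ⟨(show Xk W J (i - 1) from y).1, (show Xk W J (i - 1) from y).2,
      congrArg (fun v : LinearMap.ker ((killed W J).sc' (i - 1) i (i + 1)).g.hom => (show Xk W J i from v.1).1) hy⟩
  · rintro ⟨y, hy, hd⟩
    let y0 : Xk W J (i - 1) := ⟨y, hy⟩
    let y' : (killed W J).X (i - 1) := y0
    refine (Submodule.Quotient.mk_eq_zero _).2 ⟨y', ?_⟩
    exact Subtype.ext (Subtype.ext hd)

theorem kc_add {i : ℤ} (x y : W.X i) (hx : XCy W J i x) (hy : XCy W J i y) :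
    kc (x + y) (xcy_add hx hy) = kc x hx + kc y hy := rfl

theorem kc_smul {i : ℤ} (a : B) (x : W.X i) (hx : XCy W J i x) :
    kc (a • x) (xcy_smul a hx) = Ideal.Quotient.mk J a • kc x hx := rfl

theorem kc_congr {i : ℤ} {x y : W.X i} (hx : XCy W J i x) (hy : XCy W J i y) (h : XBd W J i (x - y)) :
    kc x hx = kc y hy := by
  rw [← sub_eq_zero]
  exact (show kc x hx - kc y hy = kc (x - y) (xcy_sub hx hy) from rfl).trans ((kc_eq_zero_iff _ _).2 h)

theorem kc_surjective {i : ℤ} (q : KH W J i) : ∃ (x : W.X i) (hx : XCy W J i x), kc x hx = q := by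
  obtain ⟨z, rfl⟩ := Submodule.Quotient.mk_surjective _ q
  have hz : killedD W J i (i + 1) (show Xk W J i from z.1) = 0 := LinearMap.mem_ker.1 z.2
  exact ⟨(show Xk W J i from z.1).1, ⟨(show Xk W J i from z.1).2, congrArg Subtype.val hz⟩, rfl⟩

theorem finite_KH [W.IsKInjective] {i : ℤ}
    (h : Module.Finite B (src J ⟶ (DerivedCategory.Q.obj W)⟦i⟧)) : Module.Finite (B ⧸ J) (KH W J i) := by
  classical
  obtain ⟨s, hs⟩ := h.fg_top
  choose x hx hex using fun φ : (src J ⟶ (DerivedCategory.Q.obj W)⟦i⟧) => cls_surjective φ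
  refine ⟨⟨s.image fun φ => kc (x φ) (hx φ), ?_⟩⟩
  refine Submodule.eq_top_iff'.2 fun q => ?_
  obtain ⟨y, hy, rfl⟩ := kc_surjective q
  have key : ∀ φ ∈ Submodule.span B (s : Set (src J ⟶ (DerivedCategory.Q.obj W)⟦i⟧)),
      kc (x φ) (hx φ) ∈ Submodule.span (B ⧸ J) ((s.image fun φ => kc (x φ) (hx φ) : Finset _) : Set (KH W J i)) := by
    intro φ hφ
    induction hφ using Submodule.span_induction with
    | mem φ hφ => exact Submodule.subset_span (Finset.mem_image_of_mem _ hφ)
    | zero =>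
      rw [(kc_eq_zero_iff _ _).2 ((cls_eq_zero_iff _).1 (hex 0))]
      exact zero_mem _
    | add φ ψ _ _ hφ hψ =>
      rw [kc_congr (hx (φ + ψ)) (xcy_add (hx φ) (hx ψ)) ((cls_eq_iff _ _).1
        ((hex _).trans ((cls_add (hx φ) (hx ψ)).trans (congrArg₂ (· + ·) (hex φ) (hex ψ))).symm)), kc_add _ _ (hx φ) (hx ψ)]
      exact add_mem hφ hψ
    | smul a φ _ hφ =>
      rw [kc_congr (hx (a • φ)) (xcy_smul a (hx φ)) ((cls_eq_iff _ _).1
        ((hex _).trans ((cls_smul a (hx φ)).trans (congrArg (a • ·) (hex φ))).symm)), kc_smul a _ (hx φ)]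
      exact Submodule.smul_mem _ _ hφ
  rw [kc_congr hy (hx (cls hy)) ((cls_eq_iff _ _).1 (hex _).symm)]
  exact key _ (hs ▸ Submodule.mem_top)

variable [IsLocalRing B] [IsNoetherianRing B]

theorem isDualizing_killed (a : ℤ) [W.IsStrictlyGE a] (hW : ∀ i, Injective (W.X i))
    (hJ : J ≤ IsLocalRing.maximalIdeal B) (hB : Dual.IsDualizing B (DerivedCategory.Q.obj W))
    [IsLocalRing (B ⧸ J)] [(killed W J).IsKInjective] :
    Dual.IsDualizing (B ⧸ J) (DerivedCategory.Q.obj (killed W J)) := by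
  haveI : W.IsKInjective := CochainComplex.isKInjective_of_injective W a
  let n := IsLocalRing.maximalIdeal B
  have hn' : n.map (Ideal.Quotient.mk J) = IsLocalRing.maximalIdeal (B ⧸ J) := by
    refine IsLocalRing.eq_maximalIdeal <| (Ideal.map_eq_top_or_isMaximal_of_surjective (Ideal.Quotient.mk J)
      Ideal.Quotient.mk_surjective (IsLocalRing.maximalIdeal.isMaximal B)).resolve_left fun htop => ?_
    have h1 : IsLocalRing.maximalIdeal B = ⊤ := by
      rw [← sup_eq_left.2 hJ]
      have h2 := congrArg (Ideal.comap (Ideal.Quotient.mk J)) htop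
      rwa [Ideal.comap_map_of_surjective _ Ideal.Quotient.mk_surjective, Ideal.comap_top, ← RingHom.ker_eq_comap_bot,
        Ideal.mk_ker] at h2
    exact (IsLocalRing.maximalIdeal.isMaximal B).ne_top h1
  obtain ⟨m, hvan, ⟨el⟩⟩ := ext_residue hB n
  obtain ⟨hvan', hel'⟩ := hom_of_res (hn' ▸ (res_killed_iff hJ).2 (res_of_hom hvan el) :
    Res (killed W J) (IsLocalRing.maximalIdeal (B ⧸ J)) m)
  refine isDualizing_of_residue _ (fun i => ?_) ⟨a, fun i hi => ModuleCat.subsingleton_of_isZero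
    (DerivedCategory.isZero_of_isGE _ a i hi)⟩ m hvan' hel'
  haveI : Module.Finite (B ⧸ J) (KH W J i) := finite_KH (Dlz27.finite_hom (model hB) hB (B ⧸ J) i)
  exact Module.Finite.equiv
    ((DerivedCategory.homologyFunctorFactors (ModuleCat.{u} (B ⧸ J)) i).app (killed W J) ≪≫
      (killed W J).homologyIsoSc' (i - 1) i (i + 1) (by simp) (by simp) ≪≫
      ((killed W J).sc' (i - 1) i (i + 1)).moduleCatHomologyIso).toLinearEquiv.symm

/-- For an Artinian quotient the killed subcomplex has cohomology in one degree, with simple socle. -/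
theorem killed_artinian (a : ℤ) [W.IsStrictlyGE a] (hW : ∀ i, Injective (W.X i))
    (hJ : J ≤ IsLocalRing.maximalIdeal B) (hB : Dual.IsDualizing B (DerivedCategory.Q.obj W))
    [IsLocalRing (B ⧸ J)] [IsArtinianRing (B ⧸ J)] :
    ∃ d : ℤ, (∀ i, i ≠ d → ∀ x, XCy W J i x → XBd W J i x) ∧ (∃ x, XCy W J d x ∧ ¬ XBd W J d x) ∧
      ∃ s : B, s ∉ J ∧ ∀ x y, XCy W J d x → XCy W J d y →
        ∃ b c : B, ¬ (b ∈ IsLocalRing.maximalIdeal B ∧ c ∈ IsLocalRing.maximalIdeal B) ∧
          XBd W J d (s • (b • x + c • y)) := by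
  classical
  haveI : W.IsKInjective := CochainComplex.isKInjective_of_injective W a
  haveI : (killed W J).IsKInjective :=
    @CochainComplex.isKInjective_of_injective _ _ _ (killed W J) a _ (injective_killed W J hW)
  let F := B ⧸ J
  let K := DerivedCategory.Q.obj (killed W J)
  have hK := isDualizing_killed a hW hJ hB
  let n' := IsLocalRing.maximalIdeal F
  obtain ⟨d, hvan, ⟨el⟩⟩ := ext_residue hK n'
  have hexact : ∀ i, i ≠ d → ∀ x, XCy W J i x → XBd W J i x := fun i hi x hx => by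
    have h1 : Van (killed W J) F i := (vanS_maximal_iff i).1 (vanS_of_support (injective_killed W J hW) _ i F fun r _ => by
      rw [IsLocalRing.eq_maximalIdeal (IsArtinianRing.isMaximal_of_isPrime r.asIdeal)]
      exact ((subsingleton_hom_iff_van (Iso.refl _) _ i).1 (hvan i hi)).vanS _)
    let x0 : Xk W J i := ⟨x, hx.1⟩
    obtain ⟨y, hy⟩ := exact_of_van i h1 x0 (Subtype.ext hx.2)
    exact ⟨(show Xk W J (i - 1) from y).1, (show Xk W J (i - 1) from y).2, congrArg Subtype.val hy⟩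
  have hz : ∀ i, i ≠ d → IsZero ((DerivedCategory.homologyFunctor (ModuleCat.{u} F) i).obj K) := fun i hi => by
    haveI : Subsingleton ((killed W J).homology i) := by
      refine (DMod.subsingleton_homology_iff (killed W J) (i := i - 1) (k := i + 1) (by simp) (by simp)).2 fun x hx => ?_
      obtain ⟨y, hy, hd⟩ := hexact i hi _ ⟨(show Xk W J i from x).2, congrArg Subtype.val hx⟩
      exact ⟨(show Xk W J (i - 1) from ⟨y, hy⟩), Subtype.ext hd⟩
    exact (ModuleCat.isZero_of_subsingleton ((killed W J).homology i)).of_iso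
      ((DerivedCategory.homologyFunctorFactors (ModuleCat.{u} F) i).app (killed W J))
  haveI : K.IsGE d := (DerivedCategory.isGE_iff _ _).2 fun i hi => hz i (by omega)
  haveI : K.IsLE d := (DerivedCategory.isLE_iff _ _).2 fun i hi => hz i (by omega)
  obtain ⟨Y, ⟨e⟩⟩ := DerivedCategory.exists_iso_singleFunctor_obj_of_isGE_of_isLE K d
  let eY : Y ≅ KH W J d :=
    ((DerivedCategory.singleFunctorCompHomologyFunctorIso (ModuleCat.{u} F) d).app Y).symm ≪≫
      (DerivedCategory.homologyFunctor (ModuleCat.{u} F) d).mapIso e.symm ≪≫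
      (DerivedCategory.homologyFunctorFactors (ModuleCat.{u} F) d).app (killed W J) ≪≫
      (killed W J).homologyIsoSc' (d - 1) d (d + 1) (by simp) (by simp) ≪≫
      ((killed W J).sc' (d - 1) d (d + 1)).moduleCatHomologyIso
  let H := KH W J d
  let eH : K ≅ (Dual.inD F H)⟦-d⟧ :=
    e ≪≫ (DerivedCategory.singleFunctor _ d).mapIso eY ≪≫
      (((DerivedCategory.singleFunctors (ModuleCat.{u} F)).shiftIso (-d) d 0 (by omega)).app H).symm
  have hH : Dual.IsDualizing F (Dual.inD F H) :=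
    isDualizing_of_iso ((shiftFunctor _ d).mapIso eH ≪≫ (shiftFunctorCompIsoId _ (-d) d (by omega)).app _)
      (isDualizing_shift hK d)
  haveI : Module.Finite F H := finite_KH (Dlz27.finite_hom (model hB) hB (B ⧸ J) d)
  obtain ⟨m, hm, ⟨em⟩⟩ := ext_residue hH n'
  have hne : Nontrivial H := by
    by_contra hnt
    rw [not_nontrivial_iff_subsingleton] at hnt
    have hz0 : IsZero (Dual.inD F H) :=
      Functor.map_isZero (DerivedCategory.singleFunctor (ModuleCat.{u} F) 0) (ModuleCat.isZero_of_subsingleton H)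
    haveI : Subsingleton (Dual.inD F (F ⧸ n') ⟶ (Dual.inD F H)⟦m⟧) :=
      ⟨fun f g => ((shiftFunctor _ m).map_isZero hz0).eq_of_tgt f g⟩
    haveI := em.symm.toEquiv.subsingleton
    exact absurd (Ideal.Quotient.subsingleton_iff.1 ‹Subsingleton (F ⧸ n')›) (IsLocalRing.maximalIdeal.isMaximal F).ne_top
  have socle : ∀ (M : Type u) [AddCommGroup M] [Module F M] [Nontrivial M], ∃ v : M, v ≠ 0 ∧ ∀ c ∈ n', c • v = 0 := by
    intro M _ _ _
    obtain ⟨P, hP⟩ := associatedPrimes.nonempty F M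
    obtain ⟨hPp, v, hv⟩ := isAssociatedPrime_iff_exists_injective_linearMap P M |>.1 hP
    have hPn : P = n' := IsLocalRing.eq_maximalIdeal (haveI := hPp; IsArtinianRing.isMaximal_of_isPrime P)
    refine ⟨v (Submodule.Quotient.mk 1), fun h0 => hPp.ne_top ?_, fun c hc => ?_⟩
    · rw [Ideal.eq_top_iff_one, ← Submodule.Quotient.mk_eq_zero]
      exact hv (h0.trans (map_zero v).symm)
    · rw [← map_smul, ← Submodule.Quotient.mk_smul, smul_eq_mul, mul_one,
        (Submodule.Quotient.mk_eq_zero P).2 (hPn ▸ hc), map_zero]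
  have hm0 : m = 0 := by
    by_contra hm'
    obtain ⟨v, hv, hvn⟩ := socle H
    haveI := hm 0 (Ne.symm hm')
    let f : (F ⧸ n') →ₗ[F] H := Submodule.liftQ n' (LinearMap.toSpanSingleton F H v) fun c hc => hvn c hc
    haveI : Subsingleton (Abelian.Ext (ModuleCat.of F (F ⧸ n')) H 0) :=
      (homExt F (ModuleCat.of F (F ⧸ n')) H 0).toEquiv.subsingleton
    have h0 : f = 0 := congrArg ModuleCat.Hom.hom
      ((Abelian.Ext.addEquiv₀.symm.injective (Subsingleton.elim _ _)) : ModuleCat.ofHom f = 0)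
    exact hv ((one_smul F v).symm.trans (LinearMap.congr_fun h0 (Submodule.Quotient.mk 1)))
  subst hm0
  let eS : (ModuleCat.of F (F ⧸ n') ⟶ H) ≃ₗ[F] F ⧸ n' :=
    Abelian.Ext.linearEquiv₀.symm ≪≫ₗ homExt F (ModuleCat.of F (F ⧸ n')) H 0 ≪≫ₗ em
  obtain ⟨σ, hσ, hσn⟩ := socle F
  obtain ⟨s, rfl⟩ := Ideal.Quotient.mk_surjective σ
  refine ⟨d, hexact, ?_, s, fun h => hσ (Ideal.Quotient.eq_zero_iff_mem.2 h), fun x y hx hy => ?_⟩
  · obtain ⟨q, hq⟩ := exists_ne (0 : H)
    obtain ⟨x, hx, rfl⟩ := kc_surjective q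
    exact ⟨x, hx, fun h => hq ((kc_eq_zero_iff _ _).2 h)⟩
  · have hkill : ∀ (z : W.X d) (hz : XCy W J d z), ∀ c ∈ n', c • (Ideal.Quotient.mk J s • kc z hz) = 0 := fun z hz c hc => by
      rw [smul_smul, show c * Ideal.Quotient.mk J s = 0 from hσn c hc, zero_smul]
    let fz : ∀ (z : W.X d), XCy W J d z → (ModuleCat.of F (F ⧸ n') ⟶ H) := fun z hz =>
      ModuleCat.ofHom (Submodule.liftQ n' (LinearMap.toSpanSingleton F H (Ideal.Quotient.mk J s • kc z hz))
        fun c hc => hkill z hz c hc)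
    obtain ⟨β', hβ'⟩ := Ideal.Quotient.mk_surjective (eS (fz x hx))
    obtain ⟨γ', hγ'⟩ := Ideal.Quotient.mk_surjective (eS (fz y hy))
    obtain ⟨β, rfl⟩ := Ideal.Quotient.mk_surjective β'
    obtain ⟨γ, rfl⟩ := Ideal.Quotient.mk_surjective γ'
    have hmem : ∀ t : B, t ∈ IsLocalRing.maximalIdeal B → Ideal.Quotient.mk J t ∈ n' := fun t ht =>
      (IsLocalRing.mem_maximalIdeal _).2 fun hu => (IsLocalRing.mem_maximalIdeal t).1 ht
        (haveI : IsLocalHom (Ideal.Quotient.mk J) := IsLocalHom.of_surjective _ Ideal.Quotient.mk_surjective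
         isUnit_of_map_unit (Ideal.Quotient.mk J) t hu)
    have key : ∀ b c : B, Ideal.Quotient.mk J b • fz x hx + Ideal.Quotient.mk J c • fz y hy = 0 →
        XBd W J d (s • (b • x + c • y)) := fun b c h => by
      have h1 := congrArg (fun f : ModuleCat.of F (F ⧸ n') ⟶ H => f.hom (Submodule.Quotient.mk 1)) h
      have hxy := xcy_smul s (xcy_add (xcy_smul b hx) (xcy_smul c hy))
      refine (kc_eq_zero_iff _ hxy).1 (Eq.trans ?_ h1)
      rw [kc_smul s _ (xcy_add (xcy_smul b hx) (xcy_smul c hy)), kc_add _ _ (xcy_smul b hx) (xcy_smul c hy), kc_smul b x hx, kc_smul c y hy, smul_add]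
      show _ = Ideal.Quotient.mk J b • ((1 : F) • (Ideal.Quotient.mk J s • kc x hx)) +
        Ideal.Quotient.mk J c • ((1 : F) • (Ideal.Quotient.mk J s • kc y hy))
      rw [one_smul, one_smul, smul_comm, smul_comm (Ideal.Quotient.mk J s) (Ideal.Quotient.mk J c)]
    by_cases hβ : β ∈ IsLocalRing.maximalIdeal B
    · refine ⟨1, 0, fun h => (IsLocalRing.maximalIdeal.isMaximal B).ne_top ((Ideal.eq_top_iff_one _).2 h.1), key 1 0 ?_⟩
      rw [map_one, map_zero, one_smul, zero_smul, add_zero, ← LinearEquiv.map_eq_zero_iff eS, ← hβ',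
        Ideal.Quotient.eq_zero_iff_mem]
      exact hmem β hβ
    · refine ⟨γ, -β, fun h => hβ (neg_mem_iff.1 h.2), key γ (-β) ?_⟩
      rw [← LinearEquiv.map_eq_zero_iff eS, map_add, map_smul, map_smul, ← hβ', ← hγ', Algebra.smul_def, Algebra.smul_def,
        Ideal.Quotient.algebraMap_eq, map_neg, map_neg]
      ring

end Groth.Agent.GorFib27
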