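import Groth.Agent.Lib.GorFib27.Fibre
import Groth.Agent.Lib.GorFib27.KilledArt

/-!
# Descent of dualizing complexes along flat local maps with Artinian closed fibre
-/

set_option autoImplicit false
universe u

open CategoryTheory CategoryTheory.Limits CochainComplex.HomComplex TensorProduct

attribute [local instance] HasDerivedCategory.standard

noncomputable section

namespace Groth.Agent.GorFib27

open Dlz27

variable {A B : Type u} [CommRing A] [CommRing B] (φ : A →+* B)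

section Classes

variable {P W : DRing.Cx A} (lo hi : ℤ) [W.IsStrictlyGE lo] [W.IsStrictlyLE hi]
  (hP : ∀ i, Module.Finite A (P.X i) ∧ Module.Free A (P.X i)) (hφ : φ.Flat)

include lo hi hP hφ in
/-- Two independent classes stay independent. -/
theorem ext_coeff_mem₂ (m : Ideal A) (n : ℤ) (c₁ c₂ : Cochain P W n)
    (h : ∀ (a a' : A), (∃ w : Cochain P W (n - 1), δ (n - 1) n w = a • c₁ + a' • c₂) ↔ a ∈ m ∧ a' ∈ m) (b b' : B)
    (hb : ∃ w : Cochain (eC φ P) (eC φ W) (n - 1), δ (n - 1) n w = b • c₁.map (eF φ) + b' • c₂.map (eF φ)) :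
    b ∈ m.map φ ∧ b' ∈ m.map φ := by
  obtain ⟨w, hw⟩ := hb
  haveI := RGamma27.flat_restrict φ hφ
  obtain ⟨u, rfl⟩ := (cochMap_bijective φ lo hi hP (n - 1)).2 w
  let N := LinearMap.range (δ_hom A P W (n - 1) n)
  let g : A × A →ₗ[A] Cochain P W n :=
    LinearMap.coprod (LinearMap.toSpanSingleton A _ c₁) (LinearMap.toSpanSingleton A _ c₂)
  let sub : Submodule A (A × A) := Submodule.prod m m
  have hker : sub ≤ LinearMap.ker (N.mkQ ∘ₗ g) := fun a ha =>
    LinearMap.mem_ker.2 ((Submodule.Quotient.mk_eq_zero N).2 ((h a.1 a.2).2 ha))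
  let ι : (A × A) ⧸ sub →ₗ[A] Cochain P W n ⧸ N := sub.liftQ _ hker
  have hι : Function.Injective ι := LinearMap.ker_eq_bot.1 (Submodule.ker_liftQ_eq_bot _ _ _ fun a ha =>
    (h a.1 a.2).1 ((Submodule.Quotient.mk_eq_zero N).1 (LinearMap.mem_ker.1 ha)))
  let z : Bb φ ⊗[A] (A × A) := (show Bb φ from b) ⊗ₜ (1, 0) + (show Bb φ from b') ⊗ₜ (0, 1)
  have h1 : g.lTensor (Bb φ) z = (δ_hom A P W (n - 1) n).lTensor (Bb φ) u := by
    refine (cochMap_bijective φ lo hi hP n).1 ?_
    rw [cochMap_δ, hw, map_add, map_add, LinearMap.lTensor_tmul, LinearMap.lTensor_tmul,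
      show g (1, 0) = c₁ from show (1 : A) • c₁ + (0 : A) • c₂ = c₁ by rw [one_smul, zero_smul, add_zero],
      show g (0, 1) = c₂ from show (0 : A) • c₁ + (1 : A) • c₂ = c₂ by rw [one_smul, zero_smul, zero_add]]
    rfl
  have h2 : (N.mkQ ∘ₗ g).lTensor (Bb φ) z = 0 := by
    rw [LinearMap.lTensor_comp_apply, h1, ← LinearMap.lTensor_comp_apply,
      show N.mkQ ∘ₗ δ_hom A P W (n - 1) n = 0 from LinearMap.range_mkQ_comp _, LinearMap.lTensor_zero, LinearMap.zero_apply]
  have h3 : sub.mkQ.lTensor (Bb φ) z = 0 := by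
    refine Module.Flat.lTensor_preserves_injective_linearMap (M := Bb φ) ι hι ?_
    rw [← LinearMap.lTensor_comp_apply, map_zero, Submodule.liftQ_mkQ, h2]
  let pr₁ : (A × A) ⧸ sub →ₗ[A] A ⧸ m := sub.liftQ (m.mkQ ∘ₗ LinearMap.fst A A A) fun a ha =>
    LinearMap.mem_ker.2 ((Submodule.Quotient.mk_eq_zero _).2 ha.1)
  let pr₂ : (A × A) ⧸ sub →ₗ[A] A ⧸ m := sub.liftQ (m.mkQ ∘ₗ LinearMap.snd A A A) fun a ha =>
    LinearMap.mem_ker.2 ((Submodule.Quotient.mk_eq_zero _).2 ha.2)
  have h31 : (show Bb φ from b) ⊗ₜ[A] (Submodule.Quotient.mk 1 : A ⧸ m) = 0 := by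
    have := congrArg (pr₁.lTensor (Bb φ)) h3
    rw [map_zero, map_add, map_add, LinearMap.lTensor_tmul, LinearMap.lTensor_tmul, LinearMap.lTensor_tmul,
      LinearMap.lTensor_tmul, show pr₁ (sub.mkQ (1, 0)) = Submodule.Quotient.mk 1 from rfl,
      show pr₁ (sub.mkQ (0, 1)) = (0 : A ⧸ m) from Submodule.Quotient.mk_zero m, TensorProduct.tmul_zero, add_zero] at this
    exact this
  have h32 : (show Bb φ from b') ⊗ₜ[A] (Submodule.Quotient.mk 1 : A ⧸ m) = 0 := by
    have := congrArg (pr₂.lTensor (Bb φ)) h3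
    rw [map_zero, map_add, map_add, LinearMap.lTensor_tmul, LinearMap.lTensor_tmul, LinearMap.lTensor_tmul,
      LinearMap.lTensor_tmul, show pr₂ (sub.mkQ (0, 1)) = Submodule.Quotient.mk 1 from rfl,
      show pr₂ (sub.mkQ (1, 0)) = (0 : A ⧸ m) from Submodule.Quotient.mk_zero m, TensorProduct.tmul_zero, zero_add] at this
    exact this
  let ev : Bb φ ⊗[A] (A ⧸ m) →+ B ⧸ m.map φ := TensorProduct.liftAddHom
    { toFun := fun b =>
        { toFun := fun q => Ideal.Quotient.mk (m.map φ) (show B from b) *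
            Ideal.quotientMap (m.map φ) φ Ideal.le_comap_map q
          map_zero' := by rw [map_zero, mul_zero]
          map_add' := fun q q' => by rw [map_add, mul_add] }
      map_zero' := AddMonoidHom.ext fun q => by
        show Ideal.Quotient.mk _ (0 : B) * _ = 0
        rw [map_zero, zero_mul]
      map_add' := fun b b' => AddMonoidHom.ext fun q => by
        show Ideal.Quotient.mk _ ((show B from b) + (show B from b')) * _ = _
        rw [map_add, add_mul]; rfl }
    fun a b q => by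
      obtain ⟨q, rfl⟩ := Ideal.Quotient.mk_surjective q
      show Ideal.Quotient.mk _ (φ a * (show B from b)) * Ideal.Quotient.mk _ (φ q) =
        Ideal.Quotient.mk _ (show B from b) * Ideal.Quotient.mk _ (φ (a * q))
      rw [map_mul, map_mul, map_mul]
      ring
  have key : ∀ x : B, (show Bb φ from x) ⊗ₜ[A] (Submodule.Quotient.mk 1 : A ⧸ m) = 0 → x ∈ m.map φ := fun x hx => by
    rw [← Ideal.Quotient.eq_zero_iff_mem]
    refine Eq.trans ?_ ((congrArg ev hx).trans (map_zero ev))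
    show _ = Ideal.Quotient.mk (m.map φ) x * Ideal.Quotient.mk (m.map φ) (φ 1)
    rw [map_one φ, map_one, mul_one]
  exact ⟨key b h31, key b' h32⟩

end Classes

/-- Flat local descent with Artinian closed fibre. -/
theorem isDualizing_descend_local [IsLocalRing A] [IsNoetherianRing A] [IsLocalRing B] [IsNoetherianRing B]
    (hφ : φ.Flat) (W : DRing.Cx A) (lo hi : ℤ) [W.IsStrictlyGE lo] [W.IsStrictlyLE hi]
    (hfinA : ∀ i, Module.Finite A (W.homology i))
    (hJ : (IsLocalRing.maximalIdeal A).map φ ≤ IsLocalRing.maximalIdeal B)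
    [IsLocalRing (B ⧸ (IsLocalRing.maximalIdeal A).map φ)] [IsArtinianRing (B ⧸ (IsLocalRing.maximalIdeal A).map φ)]
    (hB : Dual.IsDualizing B (DerivedCategory.Q.obj (eC φ W))) :
    Dual.IsDualizing A (DerivedCategory.Q.obj W) := by
  classical
  let m := IsLocalRing.maximalIdeal A
  let J := m.map φ
  haveI : (Dual.inD A (A ⧸ m)).IsLE 0 := inferInstance
  obtain ⟨P, hPle, hP, ⟨eP⟩⟩ := exists_res_finiteFree (Dual.inD A (A ⧸ m)) 0 (fun i => by
    rcases eq_or_ne i 0 with rfl | hi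
    · haveI hf : Module.Finite A ((𝟭 (ModuleCat.{u} A)).obj (ModuleCat.of A (A ⧸ m))) :=
        show Module.Finite A (A ⧸ m) from inferInstance
      exact Module.Finite.equiv (((DerivedCategory.singleFunctorCompHomologyFunctorIso (ModuleCat.{u} A) 0).app
        (ModuleCat.of A (A ⧸ m))).toLinearEquiv.symm)
    · haveI : Subsingleton (Dual.HD A (Dual.inD A (A ⧸ m)) i) := ModuleCat.subsingleton_of_isZero (by
        rcases lt_or_gt_of_ne hi with h | h
        · exact DerivedCategory.isZero_of_isGE _ 0 i h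
        · exact DerivedCategory.isZero_of_isLE _ 0 i h)
      infer_instance)
  haveI := hPle
  haveI : P.IsKProjective := DMod.isKProjective 0 fun i => by
    haveI := (hP i).2
    infer_instance
  haveI : (eC φ P).IsKProjective := DMod.isKProjective 0 fun i => by
    haveI := (hP i).2
    letI := φ.toAlgebra
    exact inferInstanceAs (Module.Projective B (TensorProduct A B (P.X i)))
  obtain ⟨g, hg⟩ := DMod.exists_map_eq (P := P)
    (L := (HomologicalComplex.single (ModuleCat.{u} A) (ComplexShape.up ℤ) 0).obj (ModuleCat.of A (A ⧸ m)))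
    (eP.hom ≫ ((DerivedCategory.singleFunctorIsoCompQ (ModuleCat.{u} A) 0).app _).hom)
  haveI hgi : IsIso (DerivedCategory.Q.map g) := by rw [hg]; infer_instance
  haveI : QuasiIso g := (DerivedCategory.isIso_Q_map_iff_quasiIso _ g).1 hgi
  haveI : IsIso (DerivedCategory.Q.map ((DBaseChange.extCx φ).map g)) :=
    (DerivedCategory.isIso_Q_map_iff_quasiIso _ _).2 (DBaseChange.quasiIso_ext_of_flat hφ g)
  have el2 : (eF φ).obj (ModuleCat.of A (A ⧸ m)) ≅ ModuleCat.of B (B ⧸ J) := by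
    letI := φ.toAlgebra
    exact ((Ideal.qoutMapEquivTensorQout B (I := m)).symm).toModuleIso
  let eB : DerivedCategory.Q.obj (eC φ P) ≅ Dual.inD B ((B ⧸ J)) :=
    asIso (DerivedCategory.Q.map ((DBaseChange.extCx φ).map g)) ≪≫
      DerivedCategory.Q.mapIso ((HomologicalComplex.singleMapHomologicalComplex (eF φ) (ComplexShape.up ℤ) 0).app _) ≪≫
      ((DerivedCategory.singleFunctorIsoCompQ (ModuleCat.{u} B) 0).app _).symm ≪≫
      (DerivedCategory.singleFunctor (ModuleCat.{u} B) 0).mapIso el2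
  let R := DerivedCategory.Q.obj (eC φ W)
  obtain ⟨W₀, hW₀, hW₀i, hW₀K, ⟨e₀⟩⟩ := HTFin27.exists_res_bounded R lo fun i hi => ModuleCat.subsingleton_of_isZero
    (DerivedCategory.isZero_of_isGE _ lo i hi)
  haveI := hW₀
  haveI := hW₀K
  let θ : ∀ i : ℤ, (DerivedCategory.Q.obj (eC φ P) ⟶ R⟦i⟧) ≃ₗ[B] (src J ⟶ (DerivedCategory.Q.obj W₀)⟦i⟧) :=
    fun i => Linear.homCongr B eB ((shiftFunctor (Dual.D B) i).mapIso e₀.symm)
  obtain ⟨d, hexact, ⟨x₀, hx₀, hx₀b⟩, s, hs, hsdep⟩ :=
    killed_artinian (W := W₀) (J := J) lo hW₀i hJ (isDualizing_of_iso e₀.symm hB)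
  have hkill : ∀ {i : ℤ} (a : A), a ∈ m → ∀ c : Cocycle P W i, hcl (a • c) = 0 := fun {i} a ha c => by
    have h0 : a • 𝟙 (Dual.inD A (A ⧸ m)) = 0 := by
      have h1 : a • 𝟙 (ModuleCat.of A (A ⧸ m)) = 0 := ModuleCat.hom_ext (LinearMap.ext fun q => by
        obtain ⟨q, rfl⟩ := Submodule.Quotient.mk_surjective _ q
        exact (Submodule.Quotient.mk_eq_zero m).2 (Ideal.mul_mem_right q m ha))
      refine Eq.trans ?_ ((congrArg (fun f => (DerivedCategory.singleFunctor (ModuleCat.{u} A) 0).map f) h1).trans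
        (Functor.map_zero _ _ _))
      rw [Functor.map_smul, CategoryTheory.Functor.map_id]
    rw [hcl_smul, ← cancel_epi eP.inv, comp_zero, Linear.comp_smul, ← Category.id_comp (eP.inv ≫ hcl c),
      ← Linear.smul_comp]
    exact (congrArg (· ≫ (eP.inv ≫ hcl c)) h0).trans zero_comp
  let up : ∀ {i : ℤ}, Cocycle P W i → Cocycle (eC φ P) (eC φ W) i := fun {i} c =>
    Cocycle.mk (c.1.map (eF φ)) (i + 1) rfl (by rw [δ_map, Cocycle.δ_eq_zero, Cochain.map_zero])
  have hinj : ∀ {i : ℤ} (c : Cocycle P W i), hcl c ≠ 0 → ∀ b : B, θ i (hcl (b • up c)) = 0 → b ∈ J := fun {i} c hc b hb => by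
    rw [LinearEquiv.map_eq_zero_iff, hclP_eq_zero_iff] at hb
    refine ext_coeff_mem φ lo hi hP hφ m i c.1 (fun a => ⟨fun h => ?_, fun ha => (hclP_eq_zero_iff _).1 (hkill a ha c)⟩) b hb
    by_contra ha
    have hu : IsUnit a := IsLocalRing.notMem_maximalIdeal.1 ha
    have h0 : a • hcl c = 0 := by rw [← hcl_smul]; exact (hclP_eq_zero_iff (a • c)).2 h
    exact hc (hu.smul_eq_zero.1 h0)
  have hJ1 : (1 : B) ∉ J := fun h => (IsLocalRing.maximalIdeal.isMaximal B).ne_top ((Ideal.eq_top_iff_one _).2 (hJ h))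
  have hvan : ∀ i : ℤ, i ≠ d → ∀ ψ : DerivedCategory.Q.obj P ⟶ (DerivedCategory.Q.obj W)⟦i⟧, ψ = 0 := fun i hi ψ => by
    obtain ⟨c, rfl⟩ := hclP_surjective ψ
    by_contra hc
    obtain ⟨x, hx, hex⟩ := cls_surjective (θ i (hcl ((1 : B) • up c)))
    exact hJ1 (hinj c hc 1 (hex.symm.trans ((cls_eq_zero_iff hx).2 (hexact i hi x hx))))
  obtain ⟨c₀, hc₀⟩ : ∃ c₀ : Cocycle P W d, hcl c₀ ≠ 0 := by
    by_contra hall
    push Not at hall
    obtain ⟨z, hz⟩ := hclP_surjective ((θ d).symm (cls hx₀))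
    obtain ⟨w, hw⟩ := exists_ext_coboundary φ lo hi hP hφ d (fun c hc =>
      (hclP_eq_zero_iff (Cocycle.mk c (d + 1) rfl hc)).1 (hall _)) z.1 (Cocycle.δ_eq_zero z _)
    refine hx₀b ((cls_eq_zero_iff hx₀).1 ?_)
    rw [← LinearEquiv.map_eq_zero_iff (θ d).symm, ← hz]
    exact (hclP_eq_zero_iff z).2 ⟨w, hw⟩
  have hgen : ∀ c : Cocycle P W d, ∃ a : A, hcl c = a • hcl c₀ := fun c => by
    by_contra hno
    push Not at hno
    have hindep : ∀ a a' : A, (∃ w : Cochain P W (d - 1), δ (d - 1) d w = a • c₀.1 + a' • c.1) ↔ a ∈ m ∧ a' ∈ m := fun a a' => by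
      constructor
      · intro h
        have h0 : a • hcl c₀ + a' • hcl c = 0 := by
          rw [← hcl_smul, ← hcl_smul, ← hclP_add]
          exact (hclP_eq_zero_iff (a • c₀ + a' • c)).2 h
        have ha' : a' ∈ m := by
          by_contra ha'
          obtain ⟨v, rfl⟩ := IsLocalRing.notMem_maximalIdeal.1 ha'
          refine hno (-((↑v⁻¹ : A) * a)) ?_
          have h2 := congrArg ((↑v⁻¹ : A) • ·) h0
          simp only [smul_add, smul_smul, Units.inv_mul, one_smul, smul_zero] at h2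
          rw [neg_smul, eq_neg_iff_add_eq_zero, add_comm]
          exact h2
        refine ⟨?_, ha'⟩
        by_contra ha
        rw [← hcl_smul (a := a') , hkill a' ha' c, add_zero] at h0
        exact hc₀ ((IsLocalRing.notMem_maximalIdeal.1 ha).smul_eq_zero.1 h0)
      · rintro ⟨ha, ha'⟩
        refine (hclP_eq_zero_iff (a • c₀ + a' • c)).1 ?_
        rw [hclP_add, hkill a ha, hkill a' ha', add_zero]
    obtain ⟨x, hx, hex⟩ := cls_surjective (θ d (hcl (up c₀)))
    obtain ⟨y, hy, hey⟩ := cls_surjective (θ d (hcl (up c)))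
    obtain ⟨b, b', hbb, hbd⟩ := hsdep x y hx hy
    have h0 : hcl ((s * b) • up c₀ + (s * b') • up c) = 0 := by
      refine (θ d).injective ?_
      rw [hclP_add, hcl_smul, hcl_smul, map_zero, map_add, map_smul, map_smul, ← hex, ← hey, mul_smul, mul_smul,
        ← smul_add, ← cls_smul b hx, ← cls_smul b' hy, ← cls_add (xcy_smul b hx) (xcy_smul b' hy),
        ← cls_smul s (xcy_add (xcy_smul b hx) (xcy_smul b' hy)), cls_eq_zero_iff]
      exact hbd
    obtain ⟨h1, h2⟩ := ext_coeff_mem₂ φ lo hi hP hφ m d c₀.1 c.1 hindep (s * b) (s * b') ((hclP_eq_zero_iff _).1 h0)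
    refine hs ?_
    rcases not_and_or.1 hbb with hu | hu
    · exact (Ideal.mul_unit_mem_iff_mem _ (IsLocalRing.notMem_maximalIdeal.1 hu)).1 h1
    · exact (Ideal.mul_unit_mem_iff_mem _ (IsLocalRing.notMem_maximalIdeal.1 hu)).1 h2
  let hom : ∀ i : ℤ, (DerivedCategory.Q.obj P ⟶ (DerivedCategory.Q.obj W)⟦i⟧) ≃ₗ[A]
      (Dual.inD A (A ⧸ m) ⟶ (DerivedCategory.Q.obj W)⟦i⟧) := fun i => Linear.homCongr A eP (Iso.refl _)
  let L : A →ₗ[A] (DerivedCategory.Q.obj P ⟶ (DerivedCategory.Q.obj W)⟦d⟧) := LinearMap.toSpanSingleton A _ (hcl c₀)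
  have hL : Function.Surjective L := fun ψ => by
    obtain ⟨c, rfl⟩ := hclP_surjective ψ
    obtain ⟨a, ha⟩ := hgen c
    exact ⟨a, ha.symm⟩
  have hker : LinearMap.ker L = m := by
    ext a
    rw [LinearMap.mem_ker, LinearMap.toSpanSingleton_apply]
    refine ⟨fun h => ?_, fun ha => by rw [← hcl_smul]; exact hkill a ha c₀⟩
    by_contra ha
    exact hc₀ ((IsLocalRing.notMem_maximalIdeal.1 ha).smul_eq_zero.1 h)
  refine isDualizing_of_residue _ (fun i => ?_) ⟨lo, fun i hi => ModuleCat.subsingleton_of_isZero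
    (DerivedCategory.isZero_of_isGE _ lo i hi)⟩ d (fun i hi => ?_)
    ⟨(hom d).symm ≪≫ₗ (LinearMap.quotKerEquivOfSurjective L hL).symm ≪≫ₗ Submodule.quotEquivOfEq _ _ hker⟩
  · haveI : Module.Finite A ((HomologicalComplex.homologyFunctor (ModuleCat.{u} A) (ComplexShape.up ℤ) i).obj W) := hfinA i
    exact Module.Finite.equiv ((DerivedCategory.homologyFunctorFactors (ModuleCat.{u} A) i).app W).toLinearEquiv.symm
  · haveI : Subsingleton (DerivedCategory.Q.obj P ⟶ (DerivedCategory.Q.obj W)⟦i⟧) := subsingleton_of_forall_eq 0 (hvan i hi)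
    exact (hom i).symm.toEquiv.subsingleton

end Groth.Agent.GorFib27
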