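import Groth.Agent.Lib.GorFib27.Killed
import Groth.Agent.Lib.Dlz27.GorensteinDual
import Groth.Agent.Lib.Dlz27.GlueApps

/-!
# Gorenstein quotients and dualizing complexes
-/

set_option autoImplicit false
universe u

open CategoryTheory CategoryTheory.Limits

attribute [local instance] HasDerivedCategory.standard

noncomputable section

namespace Groth.Agent.GorFib27

open Dlz27

variable {B : Type u} [CommRing B] {W : DRing.Cx B} {J : Ideal B} {d : ℤ}

theorem killed_exact (h : Res W J d) (i : ℤ) (hi : i ≠ d) : Subsingleton ((killed W J).homology i) := by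
  refine (DMod.subsingleton_homology_iff (killed W J) (i := i - 1) (k := i + 1) (by simp) (by simp)).2 fun x hx => ?_
  obtain ⟨y, hy, hd⟩ := h.1 i hi _ ⟨(show Xk W J i from x).2, congrArg Subtype.val hx⟩
  exact ⟨(show Xk W J (i - 1) from ⟨y, hy⟩), Subtype.ext hd⟩

theorem killed_homology (h : Res W J d) :
    Nonempty ((B ⧸ J) ≃ₗ[B ⧸ J] (killed W J).homology d) := by
  obtain ⟨-, x, hx, hann, hgen⟩ := h
  let S := (killed W J).sc' (d - 1) d (d + 1)
  let x0 : (killed W J).X d := (show Xk W J d from ⟨x, hx.1⟩)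
  have hx0 : killedD W J d (d + 1) ⟨x, hx.1⟩ = 0 := Subtype.ext hx.2
  let x' : LinearMap.ker S.g.hom := ⟨x0, LinearMap.mem_ker.2 hx0⟩
  let φ : (B ⧸ J) →ₗ[B ⧸ J] S.moduleCatLeftHomologyData.H :=
    (LinearMap.range S.moduleCatToCycles).mkQ ∘ₗ LinearMap.toSpanSingleton (B ⧸ J) _ x'
  have hφ : Function.Bijective φ := by
    refine ⟨(injective_iff_map_eq_zero φ).2 fun c hc => ?_, fun q => ?_⟩
    · obtain ⟨a, rfl⟩ := Ideal.Quotient.mk_surjective c
      obtain ⟨y, hy⟩ := (Submodule.Quotient.mk_eq_zero _).1 hc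
      refine Ideal.Quotient.eq_zero_iff_mem.2 (hann a ⟨(show Xk W J (d - 1) from y).1, (show Xk W J (d - 1) from y).2, ?_⟩)
      exact congrArg (fun v : LinearMap.ker S.g.hom => (show Xk W J d from v.1).1) hy
    · obtain ⟨z, rfl⟩ := Submodule.Quotient.mk_surjective _ q
      have hz : killedD W J d (d + 1) (show Xk W J d from z.1) = 0 := LinearMap.mem_ker.1 z.2
      obtain ⟨a, y, hy, hd⟩ := hgen (show Xk W J d from z.1).1
        ⟨(show Xk W J d from z.1).2, congrArg Subtype.val hz⟩
      refine ⟨Ideal.Quotient.mk J a, ?_⟩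
      let y0 : Xk W J (d - 1) := ⟨y, hy⟩
      let y' : (killed W J).X (d - 1) := y0
      refine ((Submodule.Quotient.eq _).2 ?_).symm
      refine ⟨y', ?_⟩
      refine Subtype.ext (Subtype.ext ?_)
      exact hd
  exact ⟨LinearEquiv.ofBijective φ hφ ≪≫ₗ
    (((killed W J).homologyIsoSc' (d - 1) d (d + 1) (by simp) (by simp)) ≪≫ S.moduleCatHomologyIso).toLinearEquiv.symm⟩

theorem killed_iso (h : Res W J d) :
    Nonempty (DerivedCategory.Q.obj (killed W J) ≅ (Dual.inD (B ⧸ J) (B ⧸ J))⟦-d⟧) := by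
  let K := DerivedCategory.Q.obj (killed W J)
  have hz : ∀ i, i ≠ d → IsZero ((DerivedCategory.homologyFunctor (ModuleCat.{u} (B ⧸ J)) i).obj K) := fun i hi => by
    haveI := killed_exact h i hi
    exact (ModuleCat.isZero_of_subsingleton ((killed W J).homology i)).of_iso
      ((DerivedCategory.homologyFunctorFactors (ModuleCat.{u} (B ⧸ J)) i).app (killed W J))
  haveI : K.IsGE d := (DerivedCategory.isGE_iff _ _).2 fun i hi => hz i (by omega)
  haveI : K.IsLE d := (DerivedCategory.isLE_iff _ _).2 fun i hi => hz i (by omega)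
  obtain ⟨Y, ⟨e⟩⟩ := DerivedCategory.exists_iso_singleFunctor_obj_of_isGE_of_isLE K d
  obtain ⟨eH⟩ := killed_homology h
  let eY : Y ≅ ModuleCat.of (B ⧸ J) (B ⧸ J) :=
    ((DerivedCategory.singleFunctorCompHomologyFunctorIso (ModuleCat.{u} (B ⧸ J)) d).app Y).symm ≪≫
      (DerivedCategory.homologyFunctor (ModuleCat.{u} (B ⧸ J)) d).mapIso e.symm ≪≫
      (DerivedCategory.homologyFunctorFactors (ModuleCat.{u} (B ⧸ J)) d).app (killed W J) ≪≫
      (eH.toModuleIso (X₁ := B ⧸ J)).symm
  exact ⟨e ≪≫ (DerivedCategory.singleFunctor _ d).mapIso eY ≪≫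
    (((DerivedCategory.singleFunctors (ModuleCat.{u} (B ⧸ J))).shiftIso (-d) d 0 (by omega)).app
      (ModuleCat.of (B ⧸ J) (B ⧸ J))).symm⟩

variable [IsLocalRing B] [IsNoetherianRing B]

/-- If `RHom(B ⧸ J, W) = B ⧸ J` up to shift, then `W` is dualizing exactly when `B ⧸ J` is Gorenstein. -/
theorem isDualizing_iff_gorenstein (a : ℤ) [W.IsStrictlyGE a] (hW : ∀ i, Injective (W.X i))
    (hfin : ∀ i, Module.Finite B (W.homology i)) (hJ : J ≤ IsLocalRing.maximalIdeal B) (h : Res W J d)
    [IsLocalRing (B ⧸ J)] :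
    Dual.IsDualizing B (DerivedCategory.Q.obj W) ↔ LocCoh.IsGorensteinLocalRing (B ⧸ J) := by
  haveI : W.IsKInjective := CochainComplex.isKInjective_of_injective W a
  haveI : (killed W J).IsKInjective :=
    @CochainComplex.isKInjective_of_injective _ _ _ (killed W J) a _ (injective_killed W J hW)
  obtain ⟨eK⟩ := killed_iso h
  let n := IsLocalRing.maximalIdeal B
  have hn' : n.map (Ideal.Quotient.mk J) = IsLocalRing.maximalIdeal (B ⧸ J) :=
    IsLocalRing.eq_maximalIdeal <| (Ideal.map_eq_top_or_isMaximal_of_surjective (Ideal.Quotient.mk J)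
      Ideal.Quotient.mk_surjective (IsLocalRing.maximalIdeal.isMaximal B)).resolve_left fun htop => by
        have h1 : n = ⊤ := by
          show IsLocalRing.maximalIdeal B = ⊤
          rw [← sup_eq_left.2 hJ]
          have h2 := congrArg (Ideal.comap (Ideal.Quotient.mk J)) htop
          rwa [Ideal.comap_map_of_surjective _ Ideal.Quotient.mk_surjective, Ideal.comap_top, ← RingHom.ker_eq_comap_bot,
            Ideal.mk_ker] at h2
        exact (IsLocalRing.maximalIdeal.isMaximal B).ne_top h1
  have hfinK : ∀ i, Module.Finite (B ⧸ J) (Dual.HD (B ⧸ J) (DerivedCategory.Q.obj (killed W J)) i) := fun i => by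
    haveI : Module.Finite (B ⧸ J) ((HomologicalComplex.homologyFunctor (ModuleCat.{u} (B ⧸ J)) (ComplexShape.up ℤ) i).obj
        (killed W J)) := by
      show Module.Finite (B ⧸ J) ((killed W J).homology i)
      by_cases hi : i = d
      · subst hi
        obtain ⟨eH⟩ := killed_homology h
        exact Module.Finite.equiv eH
      · haveI := killed_exact h i hi
        infer_instance
    exact Module.Finite.equiv ((DerivedCategory.homologyFunctorFactors (ModuleCat.{u} (B ⧸ J)) i).app
      (killed W J)).toLinearEquiv.symm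
  rw [gorenstein_iff_isDualizing]
  constructor
  · intro hω
    obtain ⟨m, hvan, ⟨el⟩⟩ := ext_residue hω n
    have hres : Res (killed W J) (IsLocalRing.maximalIdeal (B ⧸ J)) m := hn' ▸ (res_killed_iff hJ).2 (res_of_hom hvan el)
    obtain ⟨hvan', hel'⟩ := hom_of_res hres
    have hK := isDualizing_of_residue (DerivedCategory.Q.obj (killed W J)) hfinK ⟨a, fun i hi =>
      ModuleCat.subsingleton_of_isZero (DerivedCategory.isZero_of_isGE _ a i hi)⟩ m hvan' hel'
    exact isDualizing_of_iso ((shiftFunctor _ d).mapIso eK ≪≫ (shiftFunctorCompIsoId _ (-d) d (by omega)).app _)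
      (isDualizing_shift hK d)
  · intro hF
    have hK : Dual.IsDualizing (B ⧸ J) (DerivedCategory.Q.obj (killed W J)) :=
      isDualizing_of_iso eK.symm (isDualizing_shift hF (-d))
    obtain ⟨m, hvan, ⟨el⟩⟩ := ext_residue hK (IsLocalRing.maximalIdeal (B ⧸ J))
    have hres : Res W n m := (res_killed_iff hJ).1 (hn'.symm ▸ res_of_hom hvan el)
    obtain ⟨hvan', hel'⟩ := hom_of_res hres
    exact isDualizing_of_residue _ (fun i => by
      haveI : Module.Finite B ((HomologicalComplex.homologyFunctor (ModuleCat.{u} B) (ComplexShape.up ℤ) i).obj W) := hfin i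
      exact Module.Finite.equiv ((DerivedCategory.homologyFunctorFactors (ModuleCat.{u} B) i).app W).toLinearEquiv.symm)
      ⟨a, fun i hi => ModuleCat.subsingleton_of_isZero (DerivedCategory.isZero_of_isGE _ a i hi)⟩ m hvan' hel'

end Groth.Agent.GorFib27
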