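import Groth.Agent.Lib.Dlz27.FlatExtMain
import Groth.Agent.Lib.GorFib27.GorQuot

/-!
# Flat base change of dualizing complexes with Gorenstein closed fibre
-/

set_option autoImplicit false
universe u

open CategoryTheory CategoryTheory.Limits CochainComplex.HomComplex TensorProduct

attribute [local instance] HasDerivedCategory.standard

noncomputable section

namespace Groth.Agent.GorFib27

open Dlz27

variable {A B : Type u} [CommRing A] [CommRing B] (φ : A →+* B)

section Classes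

variable {P W : DRing.Cx A} (lo hi : ℤ) [W.IsStrictlyGE lo] [W.IsStrictlyLE hi]
  (hP : ∀ i, Module.Finite A (P.X i) ∧ Module.Free A (P.X i)) (hφ : φ.Flat)

include lo hi hP hφ in
/-- The generator survives the base change. -/
theorem ext_coeff_mem (m : Ideal A) (n : ℤ) (c₀ : Cochain P W n)
    (h : ∀ (a : A), (∃ w : Cochain P W (n - 1), δ (n - 1) n w = a • c₀) ↔ a ∈ m)
    (b : B) (hb : ∃ w : Cochain (eC φ P) (eC φ W) (n - 1), δ (n - 1) n w = b • c₀.map (eF φ)) : b ∈ m.map φ := by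
  obtain ⟨w, hw⟩ := hb
  haveI := RGamma27.flat_restrict φ hφ
  obtain ⟨u, rfl⟩ := (cochMap_bijective φ lo hi hP (n - 1)).2 w
  let N := LinearMap.range (δ_hom A P W (n - 1) n)
  have hker : m ≤ LinearMap.ker (N.mkQ ∘ₗ LinearMap.toSpanSingleton A (Cochain P W n) c₀) := fun a ha =>
    LinearMap.mem_ker.2 ((Submodule.Quotient.mk_eq_zero N).2 ((h a).2 ha))
  let ι : A ⧸ m →ₗ[A] Cochain P W n ⧸ N := m.liftQ _ hker
  have hι : Function.Injective ι := LinearMap.ker_eq_bot.1 (Submodule.ker_liftQ_eq_bot _ _ _ fun a ha =>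
    (h a).1 ((Submodule.Quotient.mk_eq_zero N).1 (LinearMap.mem_ker.1 ha)))
  have h1 : (show Bb φ from b) ⊗ₜ[A] c₀ = (δ_hom A P W (n - 1) n).lTensor (Bb φ) u := by
    refine (cochMap_bijective φ lo hi hP n).1 ?_
    rw [cochMap_δ, hw]
    rfl
  have h2 : N.mkQ.lTensor (Bb φ) ((show Bb φ from b) ⊗ₜ[A] c₀) = 0 := by
    rw [h1, ← LinearMap.lTensor_comp_apply, show N.mkQ ∘ₗ δ_hom A P W (n - 1) n = 0 from LinearMap.range_mkQ_comp _,
      LinearMap.lTensor_zero, LinearMap.zero_apply]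
  have h3 : (show Bb φ from b) ⊗ₜ[A] (Submodule.Quotient.mk 1 : A ⧸ m) = 0 := by
    refine Module.Flat.lTensor_preserves_injective_linearMap (M := Bb φ) ι hι ?_
    rw [map_zero, LinearMap.lTensor_tmul]
    refine (congrArg _ (show ι (Submodule.Quotient.mk 1) = N.mkQ c₀ from ?_)).trans h2
    show N.mkQ ((1 : A) • c₀) = _
    rw [one_smul]
  let ev : Bb φ ⊗[A] (A ⧸ m) →+ B ⧸ m.map φ := TensorProduct.liftAddHom
    { toFun := fun b =>
        { toFun := fun q => Ideal.Quotient.mk (m.map φ) (show B from b) *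
            Ideal.quotientMap (m.map φ) φ Ideal.le_comap_map q
          map_zero' := by rw [map_zero, mul_zero]
          map_add' := fun q q' => by rw [map_add, mul_add] }
      map_zero' := AddMonoidHom.ext fun q => by
        show Ideal.Quotient.mk _ (0 : B) * _ = 0
        rw [map_zero, zero_mul]
      map_add' := fun b b' => AddMonoidHom.ext fun q => by
        show Ideal.Quotient.mk _ ((show B from b) + (show B from b')) * _ = _
        rw [map_add, add_mul]; rfl }
    fun a b q => by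
      obtain ⟨q, rfl⟩ := Ideal.Quotient.mk_surjective q
      show Ideal.Quotient.mk _ (φ a * (show B from b)) * Ideal.Quotient.mk _ (φ q) =
        Ideal.Quotient.mk _ (show B from b) * Ideal.Quotient.mk _ (φ (a * q))
      rw [map_mul, map_mul, map_mul]
      ring
  have h4 := (congrArg ev h3).trans (map_zero ev)
  rw [← Ideal.Quotient.eq_zero_iff_mem]
  refine Eq.trans ?_ h4
  show _ = Ideal.Quotient.mk (m.map φ) b * Ideal.Quotient.mk (m.map φ) (φ 1)
  rw [map_one φ, map_one, mul_one]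

end Classes

variable [IsNoetherianRing A] {ω : Dual.D A}

/-- The fibre degree of the base change equals the residual degree. -/
theorem fibre_hom (M : Model ω) (hφ : φ.Flat) (m : Ideal A) [m.IsMaximal] (d : ℤ)
    (hvan : ∀ i : ℤ, i ≠ d → Subsingleton (Dual.inD A (A ⧸ m) ⟶ ω⟦i⟧))
    (el : (Dual.inD A (A ⧸ m) ⟶ ω⟦d⟧) ≃ₗ[A] A ⧸ m) :
    (∀ i : ℤ, i ≠ d → Subsingleton (Dual.inD B (B ⧸ m.map φ) ⟶ (DerivedCategory.Q.obj (eC φ M.W))⟦i⟧)) ∧
      Nonempty ((Dual.inD B (B ⧸ m.map φ) ⟶ (DerivedCategory.Q.obj (eC φ M.W))⟦d⟧) ≃ₗ[B] B ⧸ m.map φ) := by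
  classical
  haveI : (Dual.inD A (A ⧸ m)).IsLE 0 := inferInstance
  obtain ⟨P, hPle, hP, ⟨eP⟩⟩ := exists_res_finiteFree (Dual.inD A (A ⧸ m)) 0 (fun i => by
    rcases eq_or_ne i 0 with rfl | hi
    · haveI hf : Module.Finite A ((𝟭 (ModuleCat.{u} A)).obj (ModuleCat.of A (A ⧸ m))) :=
        show Module.Finite A (A ⧸ m) from inferInstance
      exact Module.Finite.equiv (((DerivedCategory.singleFunctorCompHomologyFunctorIso (ModuleCat.{u} A) 0).app
        (ModuleCat.of A (A ⧸ m))).toLinearEquiv.symm)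
    · haveI : Subsingleton (Dual.HD A (Dual.inD A (A ⧸ m)) i) := ModuleCat.subsingleton_of_isZero (by
        rcases lt_or_gt_of_ne hi with h | h
        · exact DerivedCategory.isZero_of_isGE _ 0 i h
        · exact DerivedCategory.isZero_of_isLE _ 0 i h)
      infer_instance)
  haveI := hPle
  haveI : P.IsKProjective := DMod.isKProjective 0 fun i => by
    haveI := (hP i).2
    infer_instance
  haveI : (eC φ P).IsKProjective := DMod.isKProjective 0 fun i => by
    haveI := (hP i).2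
    letI := φ.toAlgebra
    exact inferInstanceAs (Module.Projective B (TensorProduct A B (P.X i)))
  obtain ⟨g, hg⟩ := DMod.exists_map_eq (P := P)
    (L := (HomologicalComplex.single (ModuleCat.{u} A) (ComplexShape.up ℤ) 0).obj (ModuleCat.of A (A ⧸ m)))
    (eP.hom ≫ ((DerivedCategory.singleFunctorIsoCompQ (ModuleCat.{u} A) 0).app _).hom)
  haveI hgi : IsIso (DerivedCategory.Q.map g) := by rw [hg]; infer_instance
  haveI : QuasiIso g := (DerivedCategory.isIso_Q_map_iff_quasiIso _ g).1 hgi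
  haveI : IsIso (DerivedCategory.Q.map ((DBaseChange.extCx φ).map g)) :=
    (DerivedCategory.isIso_Q_map_iff_quasiIso _ _).2 (DBaseChange.quasiIso_ext_of_flat hφ g)
  have el2 : (eF φ).obj (ModuleCat.of A (A ⧸ m)) ≅ ModuleCat.of B ((B ⧸ m.map φ)) := by
    letI := φ.toAlgebra
    exact ((Ideal.qoutMapEquivTensorQout B (I := m)).symm).toModuleIso
  let eB : DerivedCategory.Q.obj (eC φ P) ≅ Dual.inD B ((B ⧸ m.map φ)) :=
    asIso (DerivedCategory.Q.map ((DBaseChange.extCx φ).map g)) ≪≫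
      DerivedCategory.Q.mapIso ((HomologicalComplex.singleMapHomologicalComplex (eF φ) (ComplexShape.up ℤ) 0).app _) ≪≫
      ((DerivedCategory.singleFunctorIsoCompQ (ModuleCat.{u} B) 0).app _).symm ≪≫
      (DerivedCategory.singleFunctor (ModuleCat.{u} B) 0).mapIso el2
  let hom : ∀ i : ℤ, (DerivedCategory.Q.obj P ⟶ (DerivedCategory.Q.obj M.W)⟦i⟧) ≃ₗ[A] (Dual.inD A (A ⧸ m) ⟶ ω⟦i⟧) :=
    fun i => Linear.homCongr A eP ((shiftFunctor (Dual.D A) i).mapIso M.e)
  let homB : ∀ i : ℤ, (DerivedCategory.Q.obj (eC φ P) ⟶ (DerivedCategory.Q.obj (eC φ M.W))⟦i⟧) ≃ₗ[B]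
      (Dual.inD B ((B ⧸ m.map φ)) ⟶ (DerivedCategory.Q.obj (eC φ M.W))⟦i⟧) :=
    fun i => Linear.homCongr B eB (Iso.refl _)
  refine ⟨fun i hi => ?_, ?_⟩
  · haveI : Subsingleton (DerivedCategory.Q.obj P ⟶ (DerivedCategory.Q.obj M.W)⟦i⟧) := by
      haveI := hvan i hi
      exact (hom i).toEquiv.subsingleton
    haveI hs : Subsingleton (DerivedCategory.Q.obj (eC φ P) ⟶ (DerivedCategory.Q.obj (eC φ M.W))⟦i⟧) := by
      refine subsingleton_of_forall_eq 0 fun ψ => ?_
      obtain ⟨z, rfl⟩ := hclP_surjective ψ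
      refine (hclP_eq_zero_iff z).2 (exists_ext_coboundary φ M.lo M.hi hP hφ i (fun c hc => ?_) z.1 (Cocycle.δ_eq_zero z _))
      exact (hclP_eq_zero_iff (Cocycle.mk c (i + 1) rfl hc)).1 (Subsingleton.elim _ _)
    exact (homB i).symm.toEquiv.subsingleton
  · let e0 := (hom d).trans el
    obtain ⟨c₀, hc₀⟩ := hclP_surjective (e0.symm 1)
    have hsmul : ∀ (a : A) (c : Cocycle P M.W d), e0 (hcl (a • c)) = a • e0 (hcl c) := fun a c => by
      rw [hcl_smul, map_smul]
    have h1 : ∀ a : A, (∃ w : Cochain P M.W (d - 1), δ (d - 1) d w = a • c₀.1) ↔ a ∈ m := fun a => by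
      have hiff := hclP_eq_zero_iff (a • c₀)
      refine ⟨fun hw => ?_, fun ha => ?_⟩
      · have h2 : e0 (hcl (a • c₀)) = 0 := by
          rw [hiff.2 hw, map_zero]
        rw [hsmul, hc₀, LinearEquiv.apply_symm_apply, Algebra.smul_def, mul_one, Ideal.Quotient.algebraMap_eq,
          Ideal.Quotient.eq_zero_iff_mem] at h2
        exact h2
      · refine hiff.1 (e0.injective ?_)
        rw [hsmul, hc₀, LinearEquiv.apply_symm_apply, map_zero, Algebra.smul_def, mul_one, Ideal.Quotient.algebraMap_eq,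
          Ideal.Quotient.eq_zero_iff_mem]
        exact ha
    have h2 : ∀ c : Cochain P M.W d, δ d (d + 1) c = 0 →
        ∃ (a : A) (w : Cochain P M.W (d - 1)), δ (d - 1) d w + a • c₀.1 = c := fun c hc => by
      let cc : Cocycle P M.W d := Cocycle.mk c (d + 1) rfl hc
      obtain ⟨a, ha⟩ := Ideal.Quotient.mk_surjective (e0 (hcl cc))
      have h3 : hcl (cc + (-a) • c₀) = 0 := e0.injective (by
        rw [hclP_add, map_add, hsmul, hc₀, LinearEquiv.apply_symm_apply, map_zero, Algebra.smul_def, mul_one,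
          Ideal.Quotient.algebraMap_eq, ← ha, ← map_add, add_neg_cancel, map_zero])
      obtain ⟨w, hw⟩ := (hclP_eq_zero_iff _).1 h3
      refine ⟨a, w, ?_⟩
      rw [hw]
      show c + (-a) • c₀.1 + a • c₀.1 = c
      rw [neg_smul, neg_add_cancel_right]
    let z₀ : Cocycle (eC φ P) (eC φ M.W) d := Cocycle.mk (c₀.1.map (eF φ)) (d + 1) rfl (by
      rw [δ_map, Cocycle.δ_eq_zero, Cochain.map_zero])
    let v := hcl z₀
    let L : B →ₗ[B] (DerivedCategory.Q.obj (eC φ P) ⟶ (DerivedCategory.Q.obj (eC φ M.W))⟦d⟧) :=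
      LinearMap.toSpanSingleton B _ v
    have hL : Function.Surjective L := fun ψ => by
      obtain ⟨z, rfl⟩ := hclP_surjective ψ
      obtain ⟨b, w, hw⟩ := exists_ext_generator φ M.lo M.hi hP hφ d c₀.1 (Cocycle.δ_eq_zero c₀ _) h2 z.1 (Cocycle.δ_eq_zero z _)
      refine ⟨b, ?_⟩
      have h3 : hcl (z + (-b) • z₀) = 0 := (hclP_eq_zero_iff _).2 ⟨w, by
        show _ = z.1 + (-b) • c₀.1.map (eF φ)
        rw [← hw, neg_smul, add_neg_cancel_right]⟩
      rw [hclP_add, hcl_smul, neg_smul, add_neg_eq_zero] at h3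
      exact h3.symm
    have hker : LinearMap.ker L = m.map φ := by
      refine le_antisymm (fun b hb => ?_) ?_
      · have h0 : hcl (b • z₀) = 0 := (hcl_smul b z₀).trans (LinearMap.mem_ker.1 hb)
        exact ext_coeff_mem φ M.lo M.hi hP hφ m d c₀.1 h1 b ((hclP_eq_zero_iff (b • z₀)).1 h0)
      · rw [Ideal.map_le_iff_le_comap]
        intro a ha
        refine LinearMap.mem_ker.2 ?_
        show φ a • hcl z₀ = 0
        rw [← hcl_smul]
        obtain ⟨w, hw⟩ := (h1 a).2 ha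
        refine (hclP_eq_zero_iff _).2 ⟨w.map (eF φ), ?_⟩
        show _ = φ a • c₀.1.map (eF φ)
        rw [δ_map, hw, map_smul_cochain']
    exact ⟨(homB d).symm ≪≫ₗ (LinearMap.quotKerEquivOfSurjective L hL).symm ≪≫ₗ Submodule.quotEquivOfEq _ _ hker⟩

/-- The closed residual degree of the base change to a local ring. -/
theorem exists_fibre_hom (hω : Dual.IsDualizing A ω) (M : Model ω) (hφ : φ.Flat)
    (m : Ideal A) [m.IsMaximal] :
    ∃ d : ℤ, d ≤ M.hi ∧
      (∀ i : ℤ, i ≠ d → Subsingleton (Dual.inD B ((B ⧸ m.map φ)) ⟶ (DerivedCategory.Q.obj (eC φ M.W))⟦i⟧)) ∧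
      Nonempty ((Dual.inD B ((B ⧸ m.map φ)) ⟶ (DerivedCategory.Q.obj (eC φ M.W))⟦d⟧) ≃ₗ[B]
        (B ⧸ m.map φ)) := by
  obtain ⟨d, hvan, ⟨el⟩⟩ := ext_residue hω m
  have hd : d ≤ M.hi := by
    by_contra hlt
    push Not at hlt
    have : Subsingleton (Dual.inD A (A ⧸ m) ⟶ ω⟦d⟧) := (subsingleton_hom_iff_van M.e _ _).2 fun f _ => ⟨0, by
      haveI : Subsingleton (M.W.X d) := ModuleCat.subsingleton_of_isZero (M.W.isZero_of_isStrictlyLE M.hi d hlt)
      exact Subsingleton.elim _ _⟩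
    haveI := el.symm.toEquiv.subsingleton
    exact (Ideal.Quotient.subsingleton_iff.1 ‹_› : m = ⊤) |> Ideal.IsPrime.ne_top inferInstance
  exact ⟨d, hd, fibre_hom φ M hφ m d hvan el⟩

/-- Gorenstein closed fibre iff the base change is dualizing. -/
theorem isDualizing_ext_iff_gorenstein (hω : Dual.IsDualizing A ω) (M : Model ω) [IsLocalRing B] [IsNoetherianRing B]
    (hφ : φ.Flat) (m : Ideal A) [m.IsMaximal] (hm : m.map φ ≤ IsLocalRing.maximalIdeal B)
    [IsLocalRing (B ⧸ m.map φ)] :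
    Dual.IsDualizing B (DerivedCategory.Q.obj (eC φ M.W)) ↔ LocCoh.IsGorensteinLocalRing (B ⧸ m.map φ) := by
  obtain ⟨d, -, hvan, hiso⟩ := exists_fibre_hom φ hω M hφ m
  let R := DerivedCategory.Q.obj (eC φ M.W)
  obtain ⟨W₀, hW₀, hW₀i, hW₀K, ⟨e₀⟩⟩ := HTFin27.exists_res_bounded R M.lo fun i hi => ModuleCat.subsingleton_of_isZero
    (DerivedCategory.isZero_of_isGE _ M.lo i hi)
  haveI := hW₀K
  let eh : ∀ i : ℤ, (Dual.inD B (B ⧸ m.map φ) ⟶ R⟦i⟧) ≃ₗ[B]
      (Dual.inD B (B ⧸ m.map φ) ⟶ (DerivedCategory.Q.obj W₀)⟦i⟧) :=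
    fun i => Linear.homCongr B (Iso.refl _) ((shiftFunctor (Dual.D B) i).mapIso e₀.symm)
  obtain ⟨el⟩ := hiso
  have hres : Res W₀ (m.map φ) d := res_of_hom (fun i hi => (haveI := hvan i hi; (eh i).symm.toEquiv.subsingleton))
    ((eh d).symm ≪≫ₗ el)
  haveI := hW₀
  have hfin : ∀ i, Module.Finite B (W₀.homology i) := fun i => by
    refine finite_homology_model (R := R) (fun l => ?_) W₀ e₀ i
    haveI h1 : Module.Finite B ((HomologicalComplex.homologyFunctor (ModuleCat.{u} B) (ComplexShape.up ℤ) l).obj (eC φ M.W)) :=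
      finite_homology_ext φ hφ M.W l (finite_homology hω M l)
    exact Module.Finite.equiv ((DerivedCategory.homologyFunctorFactors (ModuleCat.{u} B) l).app (eC φ M.W)).toLinearEquiv.symm
  rw [← isDualizing_iff_gorenstein M.lo hW₀i hfin hm hres]
  exact ⟨isDualizing_of_iso e₀.symm, isDualizing_of_iso e₀⟩

end Groth.Agent.GorFib27
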