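import Groth.Agent.Lib.GorFib27.Global
import Groth.Agent.Lib.Dlz27.FlatExtApps
import Groth.Agent.Lib.CplLocH7.Basic
import Groth.Agent.Lib.Compl.Noetherian
import Groth.Agent.Lib.FlatDepth.CM

/-!
# Formal fibres of rings with dualizing complexes are Gorenstein
-/

set_option autoImplicit false
universe u

open CategoryTheory CategoryTheory.Limits

attribute [local instance] HasDerivedCategory.standard

noncomputable section

namespace Groth.Agent.GorFib27

open Dlz27

variable {A B : Type u} [CommRing A] [CommRing B] [Algebra A B] [IsNoetherianRing A] [IsNoetherianRing B]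
  {ω : Dual.D A}

theorem gorenstein_fibres_of_isDualizing [Module.Flat A B] (hω : Dual.IsDualizing A ω) (M : Model ω)
    (hB : Dual.IsDualizing B (DerivedCategory.Q.obj (eC (algebraMap A B) M.W))) (p : PrimeSpectrum A)
: LocCoh.IsGorensteinRing (p.asIdeal.Fiber B) := by
  haveI := FlatDepth.isNoetherianRing_fiber (B := B) p.asIdeal
  refine { isGorensteinLocalRing_localization := fun P _ => ?_ }
  let r : PrimeSpectrum B := ⟨P.comap (Algebra.TensorProduct.includeRight : B →ₐ[A] p.asIdeal.Fiber B), inferInstance⟩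
  have hr : r.asIdeal.comap (algebraMap A B) = p.asIdeal := by
    rw [Ideal.LiesOver.over (P := P) (p := p.asIdeal), Ideal.under_def]
    ext a
    simp [r]
  let e : Localization.AtPrime P ≃+* EGA4.FibLocRing A B r.asIdeal :=
    (Ideal.Fiber.algEquivAux₂ p.asIdeal P).toRingEquiv.trans (Ideal.quotEquivOfEq (by
      rw [Ideal.map_map, ← IsScalarTower.algebraMap_eq]
      exact congrArg (Ideal.map _) hr.symm))
  rw [Goren15.isGorensteinLocalRing_iff_of_ringEquiv e, ← isDualizing_loc_iff hω M r]
  let M' := model hB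
  obtain ⟨e'⟩ := exists_locCx_congr r.asIdeal.primeCompl M'.e
  exact isDualizing_of_iso e' (isDualizing_omegaAt hB M' r)

theorem isGorensteinRing_formalFibre {A : Type u} [CommRing A] [IsLocalRing A] [IsNoetherianRing A] {ω : Dual.D A}
    (hω : Dual.IsDualizing A ω) (p : PrimeSpectrum A) :
    LocCoh.IsGorensteinRing (EGA4.formalFibre A p.asIdeal) := by
  haveI : IsNoetherianRing (EGA4.Cpl A) :=
    Compl.isNoetherianRing_adicCompletion _ (IsNoetherian.noetherian (IsLocalRing.maximalIdeal A))
  haveI := CplLocH7.faithfullyFlat_cpl (A := A)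
  let M := model hω
  refine gorenstein_fibres_of_isDualizing hω M ?_ p
  refine isDualizing_ext (algebraMap A (EGA4.Cpl A)) (RingHom.flat_algebraMap_iff.2 inferInstance) hω M fun n hn => ?_
  obtain rfl := IsLocalRing.eq_maximalIdeal hn
  have h1 : (IsLocalRing.maximalIdeal (EGA4.Cpl A)).comap (algebraMap A (EGA4.Cpl A)) = IsLocalRing.maximalIdeal A := by
    refine ((IsLocalRing.maximalIdeal.isMaximal A).eq_of_le ?_ ?_).symm
    · exact Ideal.comap_ne_top _ (IsLocalRing.maximalIdeal.isMaximal _).ne_top
    · rw [CplLocH7.maximalIdeal_cpl]; exact Ideal.le_comap_map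
  rw [h1, ← CplLocH7.maximalIdeal_cpl]
  exact ⟨inferInstance, Localization.AtPrime.map_eq_maximalIdeal⟩

end Groth.Agent.GorFib27
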