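import Groth.Agent.Lib.GorFib27.Fibre
import Groth.Agent.Lib.GRing6.ClosedFibreCore
import Groth.Agent.Lib.Goren15.Equiv

/-!
# Flat base change of dualizing complexes with Gorenstein fibres
-/

set_option autoImplicit false
universe u

open CategoryTheory CategoryTheory.Limits

attribute [local instance] HasDerivedCategory.standard

noncomputable section

namespace Groth.Agent.GorFib27

open Dlz27

variable {A B : Type u} [CommRing A] [CommRing B] [Algebra A B] [IsNoetherianRing A] [IsNoetherianRing B]
  {ω : Dual.D A}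

/-- The localized base change is dualizing at a prime exactly when the fibre local ring is Gorenstein. -/
theorem isDualizing_loc_iff [Module.Flat A B] (hω : Dual.IsDualizing A ω) (M : Model ω) (q : PrimeSpectrum B) :
    Dual.IsDualizing (Localization q.asIdeal.primeCompl)
        (DerivedCategory.Q.obj (locCx q.asIdeal.primeCompl (eC (algebraMap A B) M.W))) ↔
      LocCoh.IsGorensteinLocalRing (EGA4.FibLocRing A B q.asIdeal) := by
  let φ := algebraMap A B
  let p : PrimeSpectrum A := PrimeSpectrum.comap φ q
  let S := p.asIdeal.primeCompl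
  let A' := Localization.AtPrime p.asIdeal
  let B' := Localization.AtPrime q.asIdeal
  haveI : IsNoetherianRing A' := IsLocalization.isNoetherianRing S _ inferInstance
  haveI : IsNoetherianRing B' := IsLocalization.isNoetherianRing q.asIdeal.primeCompl _ inferInstance
  let ψ : A' →+* B' := Localization.localRingHom p.asIdeal q.asIdeal φ rfl
  have hcomp : ψ.comp (algebraMap A A') = (algebraMap B B').comp φ :=
    RingHom.ext fun a => Localization.localRingHom_to_map p.asIdeal q.asIdeal φ rfl a
  have hψ : ψ.Flat := RingHom.Flat.localRingHom (RingHom.flat_algebraMap_iff.2 ‹_›) _ _ _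
  let M' : Model (DerivedCategory.Q.obj (locCx S M.W)) :=
    { W := locCx S M.W, lo := M.lo, hi := M.hi, isGE := inferInstance, isLE := inferInstance,
      inj := fun i => injective_locF S (M.inj i)
      kinj :=
        haveI : ∀ i, Injective ((locCx S M.W).X i) := fun i => injective_locF S (M.inj i)
        CochainComplex.isKInjective_of_injective _ M.lo
      e := Iso.refl _ }
  have hω' : Dual.IsDualizing A' (DerivedCategory.Q.obj (locCx S M.W)) := isDualizing_omegaAt hω M p
  have hmap : (IsLocalRing.maximalIdeal A').map ψ = (q.asIdeal.comap φ).map ((algebraMap B B').comp φ) := by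
    rw [← Localization.AtPrime.map_eq_maximalIdeal, Ideal.map_map, hcomp]
    rfl
  have hm : (IsLocalRing.maximalIdeal A').map ψ ≤ IsLocalRing.maximalIdeal B' := by
    rw [hmap, ← Ideal.map_map, ← Localization.AtPrime.map_eq_maximalIdeal]
    exact Ideal.map_mono Ideal.map_comap_le
  haveI : Nontrivial (B' ⧸ (IsLocalRing.maximalIdeal A').map ψ) :=
    Ideal.Quotient.nontrivial_iff.2 fun h =>
      (IsLocalRing.maximalIdeal.isMaximal B').ne_top (top_le_iff.1 (h ▸ hm))
  haveI : IsLocalRing (B' ⧸ (IsLocalRing.maximalIdeal A').map ψ) :=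
    IsLocalRing.of_surjective' _ Ideal.Quotient.mk_surjective
  have eR : DerivedCategory.Q.obj (eC ψ (locCx S M.W)) ≅
      DerivedCategory.Q.obj (locCx q.asIdeal.primeCompl (eC φ M.W)) :=
    DerivedCategory.Q.mapIso (
      ((ModuleCat.extendScalars.{u, u, u} ψ).mapHomologicalComplex (ComplexShape.up ℤ)).mapIso
        ((NatIso.mapHomologicalComplex (extLocIso S) (ComplexShape.up ℤ)).app M.W).symm ≪≫
        ((NatIso.mapHomologicalComplex (ModuleCat.extendScalarsComp.{u} (algebraMap A A') ψ) (ComplexShape.up ℤ)).app M.W).symm ≪≫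
        eqToIso (congrArg (fun f => eC f M.W) hcomp) ≪≫
        (NatIso.mapHomologicalComplex (ModuleCat.extendScalarsComp.{u} φ (algebraMap B B')) (ComplexShape.up ℤ)).app M.W ≪≫
        (NatIso.mapHomologicalComplex (extLocIso q.asIdeal.primeCompl) (ComplexShape.up ℤ)).app (eC φ M.W))
  have key := isDualizing_ext_iff_gorenstein ψ hω' M' hψ (IsLocalRing.maximalIdeal A') hm
  have eQ : (B' ⧸ (IsLocalRing.maximalIdeal A').map ψ) ≃+* EGA4.FibLocRing A B q.asIdeal :=
    Ideal.quotEquivOfEq (by rw [hmap, ← IsScalarTower.algebraMap_eq])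
  rw [← Goren15.isGorensteinLocalRing_iff_of_ringEquiv eQ, ← key]
  exact ⟨fun h => isDualizing_of_iso eR.symm h, fun h => isDualizing_of_iso eR h⟩

/-- Flat base change with Gorenstein fibres, the target of finite dimension. -/
theorem isDualizing_ext_of_gorenstein [Module.Flat A B] (hω : Dual.IsDualizing A ω) (M : Model ω)
    (hdim : ringKrullDim B < ⊤) (hG : ∀ q : PrimeSpectrum B, LocCoh.IsGorensteinLocalRing (EGA4.FibLocRing A B q.asIdeal)) :
    Dual.IsDualizing B (DerivedCategory.Q.obj (eC (algebraMap A B) M.W)) := by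
  let R := DerivedCategory.Q.obj (eC (algebraMap A B) M.W)
  obtain ⟨W₀, hW₀, hW₀i, hW₀K, ⟨e₀⟩⟩ := HTFin27.exists_res_bounded R M.lo fun i hi => ModuleCat.subsingleton_of_isZero
    (DerivedCategory.isZero_of_isGE _ M.lo i hi)
  have hfin : ∀ i, Module.Finite B (Dual.HD B R i) := fun i => by
    haveI h1 : Module.Finite B ((HomologicalComplex.homologyFunctor (ModuleCat.{u} B) (ComplexShape.up ℤ) i).obj
        (eC (algebraMap A B) M.W)) :=
      finite_homology_ext _ (RingHom.flat_algebraMap_iff.2 ‹_›) M.W i (finite_homology hω M i)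
    exact Module.Finite.equiv ((DerivedCategory.homologyFunctorFactors (ModuleCat.{u} B) i).app
      (eC (algebraMap A B) M.W)).toLinearEquiv.symm
  haveI := hW₀
  refine isDualizing_of_primes R hdim hfin M.lo W₀ hW₀i e₀ fun q => ?_
  obtain ⟨e⟩ := exists_locCx_congr q.asIdeal.primeCompl e₀
  exact isDualizing_of_iso e.symm ((isDualizing_loc_iff hω M q).2 (hG q))

theorem isDualizing_LBaseChange_of_gorenstein [Module.Flat A B] [DRing.HasLBaseChange (algebraMap A B)]
    (hω : Dual.IsDualizing A ω) (hdim : ringKrullDim B < ⊤)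
    (hG : ∀ q : PrimeSpectrum B, LocCoh.IsGorensteinLocalRing (EGA4.FibLocRing A B q.asIdeal)) :
    Dual.IsDualizing B ((DRing.LBaseChange (algebraMap A B)).obj ω) := by
  let M := model hω
  haveI := RGamma27.isIso_valueMap_of_flat (algebraMap A B) (RingHom.flat_algebraMap_iff.2 ‹_›) M.W
  exact isDualizing_of_iso ((asIso ((DBaseChange.valueMap (algebraMap A B)).app M.W)).symm ≪≫
      (DRing.LBaseChange (algebraMap A B)).mapIso M.e)
    (isDualizing_ext_of_gorenstein hω M hdim hG)

theorem gorenstein_fibLocRing_of_fibre (h : ∀ p : PrimeSpectrum A, LocCoh.IsGorensteinRing (p.asIdeal.Fiber B))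
    (q : PrimeSpectrum B) : LocCoh.IsGorensteinLocalRing (EGA4.FibLocRing A B q.asIdeal) :=
  GRing6.fibLoc_of_fibre (fun R _ => LocCoh.IsGorensteinLocalRing R)
    (fun _ _ _ _ e h => (Goren15.isGorensteinLocalRing_iff_of_ringEquiv e).1 h) q.asIdeal
    fun P _ => (h ⟨q.asIdeal.comap (algebraMap A B), inferInstance⟩).isGorensteinLocalRing_localization P

end Groth.Agent.GorFib27
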