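import Groth.Agent.Lib.GorFib27.ResData
import Groth.Agent.Lib.InjHull.Change

/-!
# The subcomplex killed by an ideal, as a complex over the quotient ring
-/

set_option autoImplicit false
universe u

open CategoryTheory CategoryTheory.Limits

attribute [local instance] HasDerivedCategory.standard

noncomputable section

namespace Groth.Agent.GorFib27

open Dlz27

variable {B : Type u} [CommRing B] (W : DRing.Cx B) (J : Ideal B)

/-- The differential on killed elements. -/
def killedD (i j : ℤ) : Xk W J i →ₗ[B ⧸ J] Xk W J j where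
  toFun x := ⟨W.d i j x, map_mem_Xk W J (W.d i j).hom x.2⟩
  map_add' x y := Subtype.ext (map_add (W.d i j).hom x.1 y.1)
  map_smul' c x := by
    obtain ⟨b, rfl⟩ := Ideal.Quotient.mk_surjective c
    exact Subtype.ext (map_smul (W.d i j).hom b x.1)

/-- `Hom(B ⧸ J, W)` as a complex of `B ⧸ J`-modules. -/
def killed : DRing.Cx (B ⧸ J) where
  X i := ModuleCat.of (B ⧸ J) (Xk W J i)
  d i j := ModuleCat.ofHom (killedD W J i j)
  shape i j h := ModuleCat.hom_ext (LinearMap.ext fun x => Subtype.ext (by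
    show W.d i j x.1 = 0
    rw [W.shape i j h]; rfl))
  d_comp_d' i j k _ _ := ModuleCat.hom_ext (LinearMap.ext fun x => Subtype.ext (d_d W i j k x.1))

theorem injective_killed (hW : ∀ i, Injective (W.X i)) (i : ℤ) : Injective ((killed W J).X i) :=
  (Module.injective_iff_injective_object (B ⧸ J) (Xk W J i)).1
    (InjHullLib.injective_torsionBySet ((Module.injective_iff_injective_object B _).2 (hW i)))

instance isStrictlyGE_killed (a : ℤ) [W.IsStrictlyGE a] : CochainComplex.IsStrictlyGE (killed W J) a :=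
  (CochainComplex.isStrictlyGE_iff _ _).2 fun i hi => by
    haveI := ModuleCat.subsingleton_of_isZero (W.isZero_of_isStrictlyGE a i hi)
    exact @ModuleCat.isZero_of_subsingleton _ _ _ (inferInstanceAs (Subsingleton (Xk W J i)))

variable {W J}

theorem mem_Xk_killed {n : Ideal B} {i : ℤ} (x : (killed W J).X i) :
    x ∈ Xk (killed W J) (n.map (Ideal.Quotient.mk J)) i ↔ (show Xk W J i from x).1 ∈ Xk W n i := by
  rw [mem_Xk, mem_Xk]
  constructor
  · exact fun h a ha => congrArg Subtype.val (h _ (Ideal.mem_map_of_mem _ ha))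
  · intro h c hc
    obtain ⟨a, ha, rfl⟩ := (Ideal.mem_map_iff_of_surjective _ Ideal.Quotient.mk_surjective).1 hc
    exact Subtype.ext (h a ha)

variable {n : Ideal B} (hJn : J ≤ n)

include hJn in
theorem mem_Xk_of_le {i : ℤ} {x : W.X i} (hx : x ∈ Xk W n i) : x ∈ Xk W J i :=
  (mem_Xk W J).2 fun a ha => (mem_Xk W n).1 hx a (hJn ha)

theorem xcy_killed {i : ℤ} (x : (killed W J).X i) :
    XCy (killed W J) (n.map (Ideal.Quotient.mk J)) i x ↔ XCy W n i (show Xk W J i from x).1 :=
  and_congr (mem_Xk_killed x) ⟨fun h => congrArg Subtype.val h, fun h => Subtype.ext h⟩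

include hJn in
theorem xbd_killed {i : ℤ} (x : (killed W J).X i) :
    XBd (killed W J) (n.map (Ideal.Quotient.mk J)) i x ↔ XBd W n i (show Xk W J i from x).1 := by
  constructor
  · rintro ⟨y, hy, hd⟩
    exact ⟨(show Xk W J (i - 1) from y).1, (mem_Xk_killed y).1 hy, congrArg Subtype.val hd⟩
  · rintro ⟨y, hy, hd⟩
    exact ⟨(show Xk W J (i - 1) from ⟨y, mem_Xk_of_le hJn hy⟩), (mem_Xk_killed _).2 hy, Subtype.ext hd⟩

include hJn in
/-- Residual data is the same for the complex and for its killed subcomplex. -/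
theorem res_killed_iff {d : ℤ} : Res (killed W J) (n.map (Ideal.Quotient.mk J)) d ↔ Res W n d := by
  constructor
  · rintro ⟨h0, x, hx, hann, hgen⟩
    refine ⟨fun i hi z hz => ?_, (show Xk W J d from x).1, (xcy_killed x).1 hx, fun a ha => ?_, fun y hy => ?_⟩
    · let z' : (killed W J).X i := (show Xk W J i from ⟨z, mem_Xk_of_le hJn hz.1⟩)
      exact (xbd_killed hJn z').1 (h0 i hi z' ((xcy_killed z').2 hz))
    · have h1 := hann (Ideal.Quotient.mk J a) ((xbd_killed hJn _).2 ha)
      obtain ⟨b, hb, hab⟩ := (Ideal.mem_map_iff_of_surjective _ Ideal.Quotient.mk_surjective).1 h1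
      have := n.sub_mem hb (hJn ((Ideal.Quotient.mk_eq_mk_iff_sub_mem b a).1 hab))
      simpa using this
    · let y' : (killed W J).X d := (show Xk W J d from ⟨y, mem_Xk_of_le hJn hy.1⟩)
      obtain ⟨c, hc⟩ := hgen y' ((xcy_killed y').2 hy)
      obtain ⟨a, rfl⟩ := Ideal.Quotient.mk_surjective c
      exact ⟨a, (xbd_killed hJn _).1 hc⟩
  · rintro ⟨h0, x, hx, hann, hgen⟩
    let x' : (killed W J).X d := (show Xk W J d from ⟨x, mem_Xk_of_le hJn hx.1⟩)
    refine ⟨fun i hi z hz => (xbd_killed hJn z).2 (h0 i hi _ ((xcy_killed z).1 hz)), x', (xcy_killed x').2 hx,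
      fun c hc => ?_, fun y hy => ?_⟩
    · obtain ⟨a, rfl⟩ := Ideal.Quotient.mk_surjective c
      exact Ideal.mem_map_of_mem _ (hann a ((xbd_killed hJn _).1 hc))
    · obtain ⟨a, ha⟩ := hgen _ ((xcy_killed y).1 hy)
      exact ⟨Ideal.Quotient.mk J a, (xbd_killed hJn _).2 ha⟩

end Groth.Agent.GorFib27
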